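import Cfsg.Agent.Lib.FgsC.CoprimeBase.Bases.Search
import Cfsg.Agent.Lib.FgsC.CoprimeBase.Linear

/-!
# Good pairs from a checked certificate
-/

set_option autoImplicit false

universe u v

namespace CfsgLib.CoprimeBase.Bases

/-- A candidate image: scalar, word and matrix. -/
structure Cand where
  /-- the scalar -/
  a : ℕ
  /-- the word -/
  w : List ℕ
  /-- the matrix -/
  mat : Mat

/-- A pair of vectors with the data of its search. -/
structure PairData where
  /-- the first vector -/
  u : ℕ
  /-- the second vector -/
  v : ℕ
  /-- the steps -/
  levels : List Lv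
  /-- the coordinates of the unit vectors in the translates -/
  certs : List Row
  /-- the maps of the normaliser fixing both, by columns -/
  sols : List (List ℕ)

/-- A certificate. -/
structure Cert where
  /-- the generators -/
  gm : List Mat
  /-- the candidates -/
  cands : List Cand
  /-- the pairs -/
  pairs : List PairData

/-- All lists of Booleans of a length. -/
def pats : ℕ → List (List Bool)
  | 0 => [[]]
  | m + 1 => (pats m).flatMap fun p => [false :: p, true :: p]

theorem ofFn_mem_pats : ∀ {m : ℕ} (f : Fin m → Bool), List.ofFn f ∈ pats m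
  | 0, _ => by simp [pats]
  | m + 1, f => by
    rw [List.ofFn_succ, pats, List.mem_flatMap]
    refine ⟨_, ofFn_mem_pats fun i => f i.succ, ?_⟩
    cases f 0 <;> simp

/-- The word anticommuting with the marked generators. -/
def wordFor (m : ℕ) (pat : List Bool) : List ℕ :=
  (List.range m).filter fun i => pat.getD (if i % 2 = 0 then i + 1 else i - 1) false

/-- Columns applied to a vector. -/
def appCols (q n : ℕ) (cols : List ℕ) (x : ℕ) : ℕ :=
  lc q n cols ((List.range n).map fun j => (dig x j, j))

/-- A product of maps given by columns, applied to a vector. -/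
def appProd (q n : ℕ) : List (List ℕ) → ℕ → ℕ
  | [], x => x
  | c :: w, x => appCols q n c (appProd q n w x)

/-- An iterated map. -/
def iter (f : ℕ → ℕ) : ℕ → ℕ → ℕ
  | 0, x => x
  | k + 1, x => f (iter f k x)

/-- The identity. -/
def isId (q n : ℕ) (cols : List ℕ) : Bool := (List.range n).all fun j => ceq q n 1 (cols.getD j 0) (unit j)

/-- Some power of the product has order `q`. -/
def badWord (q n : ℕ) (w : List (List ℕ)) : Bool :=
  (List.range 13).any fun k =>
    ((List.range n).all fun j => ceq q n 1 (iter (appProd q n w) (k * q) (unit j)) (unit j)) &&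
      (List.range n).any fun j => !ceq q n 1 (iter (appProd q n w) k (unit j)) (unit j)

/-- The products tried. -/
def shortWords (ch : List (List ℕ)) : List (List (List ℕ)) :=
  (ch.map fun a => [a]) ++ ch.flatMap fun a => ch.map fun b => [a, b]

/-- All choices of one element from each list. -/
def allChoices : List (List (List ℕ)) → List (List (List ℕ))
  | [] => [[]]
  | L :: Ls => L.flatMap fun a => (allChoices Ls).map fun ch => a :: ch

/-- The generators are well formed. -/
def gensOK (n : ℕ) (gm : List Mat) : Bool := gm.all fun M => M.all fun r => r.all fun cj => Nat.blt cj.2 n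

/-- A candidate is what it claims. -/
def candOK (q n : ℕ) (gm : List Mat) (c : Cand) : Bool :=
  c.mat.all (fun r => r.all fun cj => Nat.blt cj.2 n) && c.w.all (fun i => Nat.blt i gm.length) &&
    (List.range n).all fun j => ceq q n c.a (app q c.mat (unit j)) (appWord q gm c.w (unit j))

/-- Every scalar times word is a candidate. -/
def completeOK (q : ℕ) (gm : List Mat) (cands : List Cand) : Bool :=
  (List.range q).all fun a => Nat.beq a 0 || (pats gm.length).all fun p =>
    cands.any fun c => decide (c.a = a) && decide (c.w = wordFor gm.length p)

/-- The words have the intended factors. -/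
def twistOK (q n : ℕ) (gm : List Mat) : Bool :=
  (pats gm.length).all fun p => (List.range gm.length).all fun i => (List.range n).all fun j =>
    ceq q n (if p.getD i false then q - 1 else 1) (appWord q gm (wordFor gm.length p) (app q (gm.getD i []) (unit j)))
      (app q (gm.getD i []) (appWord q gm (wordFor gm.length p) (unit j)))

/-- A pair is as claimed. -/
def pairOK (q n : ℕ) (gm : List Mat) (cands : List Cand) (P : PairData) : Bool :=
  !isZero q n P.u && (P.levels.all fun lv => lv.w.all fun i => Nat.blt i gm.length) &&
    checkSrc q n gm P.u P.certs P.levels [] [P.u, P.v] &&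
    search q n (cands.map fun c => c.mat) P.u P.certs P.sols P.levels [] [P.u, P.v] &&
    ((pats gm.length).all fun p => (List.range q).all fun a =>
      ((wordFor gm.length p).isEmpty || !ceq q n a (appWord q gm (wordFor gm.length p) P.u) P.u) &&
        !ceq q n a (appWord q gm (wordFor gm.length p) P.v) P.u)

/-- The certificate is right. -/
def Cert.ok (C : Cert) (q n : ℕ) : Bool :=
  gensOK n C.gm && C.cands.all (candOK q n C.gm) && completeOK q C.gm C.cands && twistOK q n C.gm &&
    C.pairs.all (pairOK q n C.gm C.cands) &&
    (allChoices (C.pairs.map fun P => P.sols)).all fun ch =>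
      ch.any (isId q n) || (shortWords ch).any (badWord q n)

variable {K : Type u} [Field K] {V : Type v} [AddCommGroup V] [Module K V] {n q : ℕ} [CharP K q]

/-- The product of a word. -/
def wordEl (G : ℕ → V ≃ₗ[K] V) : List ℕ → V ≃ₗ[K] V
  | [] => 1
  | i :: w => G i * wordEl G w

variable (b : Module.Basis (Fin n) K V)

include q in
theorem map_vec_appCols (hq0 : 0 < q) (hq : q ≤ 16) {g : V ≃ₗ[K] V} {cols : List ℕ}
    (h : ∀ j : Fin n, g (b j) = vec b (cols.getD j 0)) (x : ℕ) : g (vec b x) = vec b (appCols q n cols x) := by
  rw [appCols, vec_lc b hq0 hq, List.map_map, vec, map_sum]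
  refine Eq.trans (Finset.sum_congr rfl fun j _ => ?_)
    (Fin.sum_univ_eq_sum_range (fun j => (dig x j : K) • vec b (cols.getD j 0)) n)
  rw [map_smul, h]

end CfsgLib.CoprimeBase.Bases
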