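import Cfsg.Agent.Lib.FgsC.CoprimeBase.Bases.Tables

/-!
# The certificates are right
-/

set_option autoImplicit false
set_option maxRecDepth 100000

namespace CfsgLib.CoprimeBase.Bases

theorem threeCert_ok : threeCert.ok 3 4 = true := by decide +kernel

theorem fiveCert_ok : fiveCert.ok 5 4 = true := by decide +kernel

theorem threeQCert_ok : threeQCert.ok 3 8 = true := by decide +kernel

end CfsgLib.CoprimeBase.Bases
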