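import Mathlib

/-!
# Packed vectors over a prime field

A vector is a number whose base 16 digits are its coordinates. Maps are given by rows of
(coefficient, column) pairs.
-/

set_option autoImplicit false

universe u v

namespace CfsgLib.CoprimeBase.Bases

/-- A coordinate. -/
def dig (x j : ℕ) : ℕ := x / 16 ^ j % 16

/-- The vector with the listed coordinates. -/
def pack : List ℕ → ℕ
  | [] => 0
  | d :: l => d + 16 * pack l

/-- The unit vector. -/
def unit (j : ℕ) : ℕ := 16 ^ j

/-- A row: coefficients with their columns. -/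
abbrev Row := List (ℕ × ℕ)

/-- A matrix. -/
abbrev Mat := List Row

/-- A row applied to a vector, not reduced. -/
def rowVal (x : ℕ) : Row → ℕ
  | [] => 0
  | cj :: r => cj.1 * dig x cj.2 + rowVal x r

/-- A matrix applied to a vector. -/
def app (q : ℕ) (M : Mat) (x : ℕ) : ℕ := pack (M.map fun r => rowVal x r % q)

/-- A combination of listed vectors, at one coordinate, not reduced. -/
def lcVal (S : List ℕ) (j : ℕ) : Row → ℕ
  | [] => 0
  | ci :: r => ci.1 * dig (S.getD ci.2 0) j + lcVal S j r

/-- A combination of listed vectors. -/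
def lc (q n : ℕ) (S : List ℕ) (r : Row) : ℕ := pack ((List.range n).map fun j => lcVal S j r % q)

/-- Two vectors agree up to the factor `c`. -/
def ceq (q n c x y : ℕ) : Bool := (List.range n).all fun r => Nat.beq (dig x r % q) (c * dig y r % q)

/-- A vector is zero. -/
def isZero (q n x : ℕ) : Bool := (List.range n).all fun r => Nat.beq (dig x r % q) 0

theorem dig_pack : ∀ (l : List ℕ) (j : ℕ), (∀ d ∈ l, d < 16) → dig (pack l) j = l.getD j 0
  | [], j, _ => by simp [dig, pack]
  | d :: l, 0, h => by
    have hd : d < 16 := h d (by simp)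
    simp only [dig, pack, pow_zero, Nat.div_one, List.getD_cons_zero]
    omega
  | d :: l, j + 1, h => by
    have hd : d < 16 := h d (by simp)
    rw [List.getD_cons_succ, ← dig_pack l j (fun e he => h e (by simp [he]))]
    simp only [dig, pack]
    rw [pow_succ', ← Nat.div_div_eq_div_mul]
    congr 2
    omega

theorem dig_map (q : ℕ) (hq0 : 0 < q) (hq : q ≤ 16) {α : Type} (l : List α) (f : α → ℕ) (j : ℕ) :
    dig (pack (l.map fun a => f a % q)) j = (l.map fun a => f a % q).getD j 0 :=
  dig_pack _ _ fun d hd => by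
    obtain ⟨a, -, rfl⟩ := List.mem_map.1 hd
    exact lt_of_lt_of_le (Nat.mod_lt _ hq0) hq

theorem dig_unit (j c : ℕ) : dig (unit j) c = if c = j then 1 else 0 := by
  unfold dig unit
  split_ifs with h
  · subst h
    rw [Nat.div_self (by positivity)]
  · rcases lt_or_gt_of_ne h with hlt | hgt
    · obtain ⟨k, rfl⟩ : ∃ k, j = c + (k + 1) := ⟨j - c - 1, by omega⟩
      rw [pow_add, Nat.mul_div_cancel_left _ (by positivity), pow_succ']
      exact Nat.mul_mod_right _ _
    · rw [Nat.div_eq_of_lt (Nat.pow_lt_pow_right (by norm_num) hgt)]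

variable {K : Type u} [Field K] {V : Type v} [AddCommGroup V] [Module K V] {n : ℕ}

/-- The vector with the given coordinates in a basis. -/
noncomputable def vec (b : Module.Basis (Fin n) K V) (x : ℕ) : V := ∑ j : Fin n, (dig x j : K) • b j

variable {q : ℕ} [CharP K q] (b : Module.Basis (Fin n) K V)

omit [CharP K q] in
theorem vec_unit (j : Fin n) : vec b (unit j) = b j := by
  unfold vec
  rw [Finset.sum_eq_single j]
  · rw [dig_unit, if_pos rfl, Nat.cast_one, one_smul]
  · intro i _ hij
    rw [dig_unit, if_neg (fun h => hij (Fin.ext h)), Nat.cast_zero, zero_smul]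
  · simp

omit [CharP K q] in
theorem vec_repr (x : ℕ) (j : Fin n) : b.repr (vec b x) j = (dig x j : K) := by
  rw [vec, b.repr_sum_self]

theorem cast_mod (a : ℕ) : ((a % q : ℕ) : K) = (a : K) := by
  conv_rhs => rw [← Nat.mod_add_div a q]
  rw [Nat.cast_add, Nat.cast_mul, CharP.cast_eq_zero K q, zero_mul, add_zero]

theorem cast_eq_iff {a c : ℕ} : (a : K) = (c : K) ↔ a % q = c % q := by
  rw [CharP.natCast_eq_natCast K q]
  rfl

include q in
theorem vec_eq_smul_iff {x y c : ℕ} : vec b x = (c : K) • vec b y ↔ ceq q n c x y = true := by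
  simp only [ceq, List.all_eq_true, List.mem_range, Nat.beq_eq]
  constructor
  · intro h r hr
    have := congrArg (fun v => b.repr v ⟨r, hr⟩) h
    simp only [map_smul, Finsupp.smul_apply, vec_repr, smul_eq_mul] at this
    rw [← Nat.cast_mul] at this
    exact cast_eq_iff.1 this
  · intro h
    refine b.repr.injective (Finsupp.ext fun j => ?_)
    simp only [map_smul, Finsupp.smul_apply, vec_repr, smul_eq_mul]
    rw [← Nat.cast_mul]
    exact cast_eq_iff.2 (h j j.2)

include q in
theorem vec_eq_zero_iff {x : ℕ} : vec b x = 0 ↔ isZero q n x = true := by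
  rw [← zero_smul K (vec b x), ← Nat.cast_zero, vec_eq_smul_iff (q := q) b]
  simp [ceq, isZero]

theorem vec_zero : vec b 0 = 0 := by simp [vec, dig]

theorem vec_lc (hq0 : 0 < q) (hq : q ≤ 16) (S : List ℕ) (r : Row) :
    vec b (lc q n S r) = (r.map fun ci => (ci.1 : K) • vec b (S.getD ci.2 0)).sum := by
  have h : ∀ r : Row, (r.map fun ci => (ci.1 : K) • vec b (S.getD ci.2 0)).sum =
      ∑ j : Fin n, (lcVal S j r : K) • b j := by
    intro r
    induction r with
    | nil => simp [lcVal]
    | cons ci r ih =>
      rw [List.map_cons, List.sum_cons, ih, vec, Finset.smul_sum, ← Finset.sum_add_distrib]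
      refine Finset.sum_congr rfl fun j _ => ?_
      rw [lcVal, Nat.cast_add, add_smul, Nat.cast_mul, smul_smul]
  rw [h, vec]
  refine Finset.sum_congr rfl fun j _ => ?_
  rw [lc, dig_map q hq0 hq]
  simp [cast_mod]

theorem vec_app (hq0 : 0 < q) (hq : q ≤ 16) {M : Mat} (hM : ∀ r ∈ M, ∀ cj ∈ r, cj.2 < n) (x : ℕ) :
    vec b (app q M x) = ∑ j : Fin n, (dig x j : K) • vec b (app q M (unit j)) := by
  have hrow : ∀ r : Row, (∀ cj ∈ r, cj.2 < n) → rowVal x r = ∑ j : Fin n, dig x j * rowVal (unit j) r := by
    intro r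
    induction r with
    | nil => simp [rowVal]
    | cons cj r ih =>
      intro h
      simp only [rowVal, mul_add, Finset.sum_add_distrib]
      rw [← ih fun e he => h e (by simp [he])]
      congr 1
      rw [Finset.sum_eq_single (⟨cj.2, h cj (by simp)⟩ : Fin n)]
      · rw [dig_unit, if_pos rfl]; ring
      · intro i _ hi
        rw [dig_unit, if_neg (fun e => hi (Fin.ext e.symm)), mul_zero, mul_zero]
      · simp
  have hd : ∀ (y : ℕ) (i : Fin n), (dig (app q M y) i : K) = (rowVal y (M.getD i []) : K) := by
    intro y i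
    rw [app, dig_map q hq0 hq]
    rcases lt_or_ge (i : ℕ) M.length with h | h
    · rw [List.getD_eq_getElem _ _ (by simpa using h), List.getD_eq_getElem _ _ h, List.getElem_map, cast_mod]
    · rw [List.getD_eq_default _ _ (by simpa using h), List.getD_eq_default _ _ h]
      simp [rowVal]
  have hmem : ∀ i : ℕ, ∀ cj ∈ M.getD i [], cj.2 < n := by
    intro i cj hcj
    rcases lt_or_ge i M.length with h | h
    · rw [List.getD_eq_getElem _ _ h] at hcj
      exact hM _ (List.getElem_mem h) cj hcj
    · rw [List.getD_eq_default _ _ h] at hcj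
      simp at hcj
  simp only [vec, Finset.smul_sum]
  rw [Finset.sum_comm]
  refine Finset.sum_congr rfl fun i _ => ?_
  simp only [smul_smul]
  rw [← Finset.sum_smul]
  congr 1
  simp only [hd]
  rw [hrow _ (hmem i), Nat.cast_sum]
  simp only [Nat.cast_mul]

end CfsgLib.CoprimeBase.Bases
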