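import Cfsg.Agent.Lib.FgsC.CoprimeBase.Bases.Cert

/-!
# Tables for the three base cases
-/

set_option autoImplicit false
set_option maxRecDepth 100000

namespace CfsgLib.CoprimeBase.Bases

/-- The generators, case 3DD. -/
def threeGens : List Mat := [
  [[(1, 0)], [(1, 1)], [(2, 2)], [(2, 3)]],
  [[(1, 2)], [(1, 3)], [(1, 0)], [(1, 1)]],
  [[(1, 0)], [(2, 1)], [(1, 2)], [(2, 3)]],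
  [[(1, 1)], [(1, 0)], [(1, 3)], [(1, 2)]]]

/-- The candidates, case 3DD. -/
def threeCands : List Cand := [
  ⟨1, [], [[(1, 0)], [(1, 1)], [(1, 2)], [(1, 3)]]⟩,
  ⟨1, [1], [[(1, 2)], [(1, 3)], [(1, 0)], [(1, 1)]]⟩,
  ⟨1, [0], [[(1, 0)], [(1, 1)], [(2, 2)], [(2, 3)]]⟩,
  ⟨1, [0, 1], [[(1, 2)], [(1, 3)], [(2, 0)], [(2, 1)]]⟩,
  ⟨1, [3], [[(1, 1)], [(1, 0)], [(1, 3)], [(1, 2)]]⟩,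
  ⟨1, [1, 3], [[(1, 3)], [(1, 2)], [(1, 1)], [(1, 0)]]⟩,
  ⟨1, [0, 3], [[(1, 1)], [(1, 0)], [(2, 3)], [(2, 2)]]⟩,
  ⟨1, [0, 1, 3], [[(1, 3)], [(1, 2)], [(2, 1)], [(2, 0)]]⟩,
  ⟨1, [2], [[(1, 0)], [(2, 1)], [(1, 2)], [(2, 3)]]⟩,
  ⟨1, [1, 2], [[(1, 2)], [(2, 3)], [(1, 0)], [(2, 1)]]⟩,
  ⟨1, [0, 2], [[(1, 0)], [(2, 1)], [(2, 2)], [(1, 3)]]⟩,
  ⟨1, [0, 1, 2], [[(1, 2)], [(2, 3)], [(2, 0)], [(1, 1)]]⟩,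
  ⟨1, [2, 3], [[(1, 1)], [(2, 0)], [(1, 3)], [(2, 2)]]⟩,
  ⟨1, [1, 2, 3], [[(1, 3)], [(2, 2)], [(1, 1)], [(2, 0)]]⟩,
  ⟨1, [0, 2, 3], [[(1, 1)], [(2, 0)], [(2, 3)], [(1, 2)]]⟩,
  ⟨1, [0, 1, 2, 3], [[(1, 3)], [(2, 2)], [(2, 1)], [(1, 0)]]⟩,
  ⟨2, [], [[(2, 0)], [(2, 1)], [(2, 2)], [(2, 3)]]⟩,
  ⟨2, [1], [[(2, 2)], [(2, 3)], [(2, 0)], [(2, 1)]]⟩,
  ⟨2, [0], [[(2, 0)], [(2, 1)], [(1, 2)], [(1, 3)]]⟩,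
  ⟨2, [0, 1], [[(2, 2)], [(2, 3)], [(1, 0)], [(1, 1)]]⟩,
  ⟨2, [3], [[(2, 1)], [(2, 0)], [(2, 3)], [(2, 2)]]⟩,
  ⟨2, [1, 3], [[(2, 3)], [(2, 2)], [(2, 1)], [(2, 0)]]⟩,
  ⟨2, [0, 3], [[(2, 1)], [(2, 0)], [(1, 3)], [(1, 2)]]⟩,
  ⟨2, [0, 1, 3], [[(2, 3)], [(2, 2)], [(1, 1)], [(1, 0)]]⟩,
  ⟨2, [2], [[(2, 0)], [(1, 1)], [(2, 2)], [(1, 3)]]⟩,
  ⟨2, [1, 2], [[(2, 2)], [(1, 3)], [(2, 0)], [(1, 1)]]⟩,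
  ⟨2, [0, 2], [[(2, 0)], [(1, 1)], [(1, 2)], [(2, 3)]]⟩,
  ⟨2, [0, 1, 2], [[(2, 2)], [(1, 3)], [(1, 0)], [(2, 1)]]⟩,
  ⟨2, [2, 3], [[(2, 1)], [(1, 0)], [(2, 3)], [(1, 2)]]⟩,
  ⟨2, [1, 2, 3], [[(2, 3)], [(1, 2)], [(2, 1)], [(1, 0)]]⟩,
  ⟨2, [0, 2, 3], [[(2, 1)], [(1, 0)], [(1, 3)], [(2, 2)]]⟩,
  ⟨2, [0, 1, 2, 3], [[(2, 3)], [(1, 2)], [(1, 1)], [(2, 0)]]⟩]

/-- Pair 0, case 3DD. -/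
def threePair0 : PairData := ⟨4113, 4608, [
    ⟨[3], 1, [], [[(2, 0), (1, 1), (1, 2)], [(1, 1), (1, 3)]]⟩,
    ⟨[0], 1, [1], [[(1, 1), (1, 5)], [(2, 1), (2, 4), (1, 6)], [(2, 1), (1, 7)]]⟩,
    ⟨[1], 1, [2, 1], [[(1, 0), (1, 1), (1, 8), (1, 9)], [(2, 0), (2, 1), (1, 8), (1, 10)], [(2, 0), (2, 1), (2, 8), (1, 11)], [(1, 0), (2, 1), (2, 4), (1, 8), (1, 12)], [(2, 0), (2, 1), (2, 8), (1, 13)], [(2, 0), (2, 4), (2, 8), (1, 14)], [(1, 0), (1, 1), (1, 8), (1, 15)]]⟩,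
    ⟨[2], 1, [1, 1, 2], [[(1, 0), (2, 1), (1, 4), (2, 8), (1, 16)], [(1, 0), (2, 1), (2, 4), (1, 17)], [(2, 4), (2, 8), (1, 18)], [(2, 0), (1, 1), (1, 4), (1, 19)], [(2, 1), (2, 4), (2, 8), (1, 20)], [(2, 0), (1, 1), (1, 4), (1, 21)], [(1, 0), (1, 1), (1, 4), (2, 8), (1, 22)], [(1, 0), (2, 1), (2, 4), (1, 23)], [(2, 0), (2, 1), (1, 4), (1, 8), (1, 24)], [(2, 0), (2, 4), (1, 25)], [(2, 1), (2, 4), (1, 8), (1, 26)], [(1, 0), (1, 4), (1, 27)], [(1, 0), (2, 4), (2, 8), (1, 28)], [(1, 0), (1, 4), (1, 29)], [(1, 4), (2, 8), (1, 30)], [(2, 0), (2, 4), (1, 31)]]⟩],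
  [[(2, 1), (1, 4), (2, 8)], [(2, 0), (1, 1), (1, 4), (1, 8)], [(2, 0), (2, 1), (1, 4)], [(2, 0), (1, 4)]],
  [[1, 16, 256, 4096], [16, 1, 256, 4096], [4370, 4385, 4625, 8465], [4385, 4370, 4625, 8465]]⟩

/-- Pair 1, case 3DD. -/
def threePair1 : PairData := ⟨4129, 513, [
    ⟨[1, 2], 1, [], [[(2, 0), (1, 1), (1, 2)], [(1, 1), (1, 3)]]⟩,
    ⟨[1], 1, [1], [[(1, 1), (1, 5)], [(2, 1), (2, 4), (1, 6)], [(2, 1), (1, 7)]]⟩,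
    ⟨[0], 1, [2, 2], [[(2, 0), (2, 4), (1, 9)], [(1, 0), (1, 4), (2, 8), (1, 10)], [(1, 0), (1, 4), (1, 11)], [(2, 1), (1, 8), (1, 12)], [(1, 0), (1, 4), (1, 13)], [(2, 0), (2, 1), (2, 4), (1, 8), (1, 14)], [(2, 0), (2, 4), (1, 15)]]⟩,
    ⟨[3], 1, [1, 1, 2], [[(2, 1), (1, 4), (2, 8), (1, 16)], [(2, 0), (1, 1), (1, 4), (1, 17)], [(1, 0), (1, 1), (2, 8), (1, 18)], [(1, 0), (2, 1), (2, 4), (1, 19)], [(1, 0), (2, 1), (2, 8), (1, 20)], [(1, 0), (2, 1), (2, 4), (1, 21)], [(1, 4), (2, 8), (1, 22)], [(2, 0), (1, 1), (1, 4), (1, 23)], [(1, 0), (1, 1), (2, 4), (2, 8), (1, 24)], [(1, 0), (1, 1), (1, 4), (1, 8), (1, 25)], [(1, 4), (1, 8), (1, 26)], [(2, 0), (2, 1), (2, 4), (2, 8), (1, 27)], [(1, 0), (2, 4), (1, 8), (1, 28)], [(2, 0), (2, 1), (2, 4), (2, 8),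 (1, 29)], [(2, 0), (1, 1), (2, 8), (1, 30)], [(1, 0), (1, 1), (1, 4), (1, 8), (1, 31)]]⟩],
  [[(2, 0), (2, 1), (2, 4)], [(2, 1), (2, 4), (1, 8)], [(2, 0), (1, 1), (2, 4)], [(2, 0), (1, 8)]],
  [[1, 16, 256, 4096], [1, 8192, 256, 32], [4386, 8738, 4641, 8481], [4386, 4626, 4641, 4369]]⟩

/-- Pair 2, case 3DD. -/
def threePair2 : PairData := ⟨530, 2, [
    ⟨[0, 2], 1, [], [[(1, 0), (1, 1), (1, 2)], [(2, 1), (1, 3)]]⟩,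
    ⟨[0], 1, [1], [[(2, 1), (1, 5)], [(1, 1), (1, 4), (1, 6)], [(2, 1), (1, 7)]]⟩,
    ⟨[1], 1, [2, 2], [[(1, 0), (2, 4), (1, 9)], [(2, 0), (1, 4), (1, 8), (1, 10)], [(1, 0), (2, 4), (1, 11)], [(2, 1), (2, 8), (1, 12)], [(1, 0), (2, 4), (1, 13)], [(2, 0), (1, 1), (1, 4), (1, 8), (1, 14)], [(1, 0), (2, 4), (1, 15)]]⟩,
    ⟨[3], 1, [1, 1, 2], [[(2, 1), (1, 4), (1, 8), (1, 16)], [(2, 0), (2, 1), (2, 4), (1, 17)], [(1, 0), (2, 1), (2, 8), (1, 18)], [(2, 0), (2, 1), (2, 4), (1, 19)], [(1, 0), (1, 1), (2, 8), (1, 20)], [(2, 0), (2, 1), (2, 4), (1, 21)], [(1, 4), (1, 8), (1, 22)], [(2, 0), (2, 1), (2, 4), (1, 23)], [(2, 0), (1, 1), (2, 4), (1, 8), (1, 24)], [(1, 0), (2, 1), (2, 4), (1, 8), (1, 25)], [(2, 4), (1, 8), (1, 26)], [(1, 0), (2, 1), (2, 4), (1,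 8), (1, 27)], [(1, 0), (1, 4), (1, 8), (1, 28)], [(1, 0), (2, 1), (2, 4), (1, 8), (1, 29)], [(1, 0), (1, 1), (1, 8), (1, 30)], [(1, 0), (2, 1), (2, 4), (1, 8), (1, 31)]]⟩],
  [[(2, 1)], [(2, 0), (2, 1), (2, 4)], [(1, 0), (2, 4)], [(1, 0), (2, 1), (2, 4), (1, 8)]],
  [[1, 16, 256, 4096], [1, 16, 256, 8192], [1, 512, 32, 4096], [1, 512, 32, 8192]]⟩

/-- The certificate, case 3DD. -/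
def threeCert : Cert := ⟨threeGens, threeCands, [threePair0, threePair1, threePair2]⟩

/-- The generators, case 5DD. -/
def fiveGens : List Mat := [
  [[(1, 0)], [(1, 1)], [(4, 2)], [(4, 3)]],
  [[(1, 2)], [(1, 3)], [(1, 0)], [(1, 1)]],
  [[(1, 0)], [(4, 1)], [(1, 2)], [(4, 3)]],
  [[(1, 1)], [(1, 0)], [(1, 3)], [(1, 2)]]]

/-- The candidates, case 5DD. -/
def fiveCands : List Cand := [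
  ⟨1, [], [[(1, 0)], [(1, 1)], [(1, 2)], [(1, 3)]]⟩,
  ⟨1, [1], [[(1, 2)], [(1, 3)], [(1, 0)], [(1, 1)]]⟩,
  ⟨1, [0], [[(1, 0)], [(1, 1)], [(4, 2)], [(4, 3)]]⟩,
  ⟨1, [0, 1], [[(1, 2)], [(1, 3)], [(4, 0)], [(4, 1)]]⟩,
  ⟨1, [3], [[(1, 1)], [(1, 0)], [(1, 3)], [(1, 2)]]⟩,
  ⟨1, [1, 3], [[(1, 3)], [(1, 2)], [(1, 1)], [(1, 0)]]⟩,
  ⟨1, [0, 3], [[(1, 1)], [(1, 0)], [(4, 3)], [(4, 2)]]⟩,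
  ⟨1, [0, 1, 3], [[(1, 3)], [(1, 2)], [(4, 1)], [(4, 0)]]⟩,
  ⟨1, [2], [[(1, 0)], [(4, 1)], [(1, 2)], [(4, 3)]]⟩,
  ⟨1, [1, 2], [[(1, 2)], [(4, 3)], [(1, 0)], [(4, 1)]]⟩,
  ⟨1, [0, 2], [[(1, 0)], [(4, 1)], [(4, 2)], [(1, 3)]]⟩,
  ⟨1, [0, 1, 2], [[(1, 2)], [(4, 3)], [(4, 0)], [(1, 1)]]⟩,
  ⟨1, [2, 3], [[(1, 1)], [(4, 0)], [(1, 3)], [(4, 2)]]⟩,
  ⟨1, [1, 2, 3], [[(1, 3)], [(4, 2)], [(1, 1)], [(4, 0)]]⟩,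
  ⟨1, [0, 2, 3], [[(1, 1)], [(4, 0)], [(4, 3)], [(1, 2)]]⟩,
  ⟨1, [0, 1, 2, 3], [[(1, 3)], [(4, 2)], [(4, 1)], [(1, 0)]]⟩,
  ⟨2, [], [[(2, 0)], [(2, 1)], [(2, 2)], [(2, 3)]]⟩,
  ⟨2, [1], [[(2, 2)], [(2, 3)], [(2, 0)], [(2, 1)]]⟩,
  ⟨2, [0], [[(2, 0)], [(2, 1)], [(3, 2)], [(3, 3)]]⟩,
  ⟨2, [0, 1], [[(2, 2)], [(2, 3)], [(3, 0)], [(3, 1)]]⟩,
  ⟨2, [3], [[(2, 1)], [(2, 0)], [(2, 3)], [(2, 2)]]⟩,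
  ⟨2, [1, 3], [[(2, 3)], [(2, 2)], [(2, 1)], [(2, 0)]]⟩,
  ⟨2, [0, 3], [[(2, 1)], [(2, 0)], [(3, 3)], [(3, 2)]]⟩,
  ⟨2, [0, 1, 3], [[(2, 3)], [(2, 2)], [(3, 1)], [(3, 0)]]⟩,
  ⟨2, [2], [[(2, 0)], [(3, 1)], [(2, 2)], [(3, 3)]]⟩,
  ⟨2, [1, 2], [[(2, 2)], [(3, 3)], [(2, 0)], [(3, 1)]]⟩,
  ⟨2, [0, 2], [[(2, 0)], [(3, 1)], [(3, 2)], [(2, 3)]]⟩,
  ⟨2, [0, 1, 2], [[(2, 2)], [(3, 3)], [(3, 0)], [(2, 1)]]⟩,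
  ⟨2, [2, 3], [[(2, 1)], [(3, 0)], [(2, 3)], [(3, 2)]]⟩,
  ⟨2, [1, 2, 3], [[(2, 3)], [(3, 2)], [(2, 1)], [(3, 0)]]⟩,
  ⟨2, [0, 2, 3], [[(2, 1)], [(3, 0)], [(3, 3)], [(2, 2)]]⟩,
  ⟨2, [0, 1, 2, 3], [[(2, 3)], [(3, 2)], [(3, 1)], [(2, 0)]]⟩,
  ⟨3, [], [[(3, 0)], [(3, 1)], [(3, 2)], [(3, 3)]]⟩,
  ⟨3, [1], [[(3, 2)], [(3, 3)], [(3, 0)], [(3, 1)]]⟩,
  ⟨3, [0], [[(3, 0)], [(3, 1)], [(2, 2)], [(2, 3)]]⟩,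
  ⟨3, [0, 1], [[(3, 2)], [(3, 3)], [(2, 0)], [(2, 1)]]⟩,
  ⟨3, [3], [[(3, 1)], [(3, 0)], [(3, 3)], [(3, 2)]]⟩,
  ⟨3, [1, 3], [[(3, 3)], [(3, 2)], [(3, 1)], [(3, 0)]]⟩,
  ⟨3, [0, 3], [[(3, 1)], [(3, 0)], [(2, 3)], [(2, 2)]]⟩,
  ⟨3, [0, 1, 3], [[(3, 3)], [(3, 2)], [(2, 1)], [(2, 0)]]⟩,
  ⟨3, [2], [[(3, 0)], [(2, 1)], [(3, 2)], [(2, 3)]]⟩,
  ⟨3, [1, 2], [[(3, 2)], [(2, 3)], [(3, 0)], [(2, 1)]]⟩,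
  ⟨3, [0, 2], [[(3, 0)], [(2, 1)], [(2, 2)], [(3, 3)]]⟩,
  ⟨3, [0, 1, 2], [[(3, 2)], [(2, 3)], [(2, 0)], [(3, 1)]]⟩,
  ⟨3, [2, 3], [[(3, 1)], [(2, 0)], [(3, 3)], [(2, 2)]]⟩,
  ⟨3, [1, 2, 3], [[(3, 3)], [(2, 2)], [(3, 1)], [(2, 0)]]⟩,
  ⟨3, [0, 2, 3], [[(3, 1)], [(2, 0)], [(2, 3)], [(3, 2)]]⟩,
  ⟨3, [0, 1, 2, 3], [[(3, 3)], [(2, 2)], [(2, 1)], [(3, 0)]]⟩,
  ⟨4, [], [[(4, 0)], [(4, 1)], [(4, 2)], [(4, 3)]]⟩,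
  ⟨4, [1], [[(4, 2)], [(4, 3)], [(4, 0)], [(4, 1)]]⟩,
  ⟨4, [0], [[(4, 0)], [(4, 1)], [(1, 2)], [(1, 3)]]⟩,
  ⟨4, [0, 1], [[(4, 2)], [(4, 3)], [(1, 0)], [(1, 1)]]⟩,
  ⟨4, [3], [[(4, 1)], [(4, 0)], [(4, 3)], [(4, 2)]]⟩,
  ⟨4, [1, 3], [[(4, 3)], [(4, 2)], [(4, 1)], [(4, 0)]]⟩,
  ⟨4, [0, 3], [[(4, 1)], [(4, 0)], [(1, 3)], [(1, 2)]]⟩,
  ⟨4, [0, 1, 3], [[(4, 3)], [(4, 2)], [(1, 1)], [(1, 0)]]⟩,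
  ⟨4, [2], [[(4, 0)], [(1, 1)], [(4, 2)], [(1, 3)]]⟩,
  ⟨4, [1, 2], [[(4, 2)], [(1, 3)], [(4, 0)], [(1, 1)]]⟩,
  ⟨4, [0, 2], [[(4, 0)], [(1, 1)], [(1, 2)], [(4, 3)]]⟩,
  ⟨4, [0, 1, 2], [[(4, 2)], [(1, 3)], [(1, 0)], [(4, 1)]]⟩,
  ⟨4, [2, 3], [[(4, 1)], [(1, 0)], [(4, 3)], [(1, 2)]]⟩,
  ⟨4, [1, 2, 3], [[(4, 3)], [(1, 2)], [(4, 1)], [(1, 0)]]⟩,
  ⟨4, [0, 2, 3], [[(4, 1)], [(1, 0)], [(1, 3)], [(4, 2)]]⟩,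
  ⟨4, [0, 1, 2, 3], [[(4, 3)], [(1, 2)], [(1, 1)], [(4, 0)]]⟩]

/-- Pair 0, case 5DD. -/
def fivePair0 : PairData := ⟨8512, 4354, [
    ⟨[0], 1, [], []⟩,
    ⟨[1], 1, [4], [[(4, 0), (3, 1), (3, 2), (4, 3), (1, 4)], [(4, 0), (4, 1), (2, 2), (3, 3), (1, 5)], [(2, 0), (1, 1), (1, 2), (2, 3), (1, 6)], [(3, 0), (2, 1), (1, 2), (1, 3), (1, 7)]]⟩,
    ⟨[2], 1, [1, 1], [[(2, 0), (3, 1), (4, 2), (2, 3), (1, 8)], [(1, 0), (3, 1), (4, 2), (1, 3), (1, 9)], [(4, 0), (2, 1), (2, 2), (3, 3), (1, 10)], [(4, 0), (1, 1), (1, 2), (3, 3), (1, 11)], [(1, 0), (4, 1), (2, 2), (3, 3), (1, 12)], [(3, 0), (4, 1), (1, 2), (3, 3), (1, 13)], [(3, 0), (2, 1), (4, 2), (1, 3), (1, 14)], [(4, 0), (2, 1), (2, 2), (1, 3), (1, 15)]]⟩,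
    ⟨[3], 1, [4, 1, 1], [[(3, 0), (2, 2), (3, 3), (1, 16)], [(1, 0), (2, 1), (1, 2), (3, 3), (1, 17)], [(2, 0), (3, 1), (3, 2), (1, 18)], [(1, 0), (3, 1), (1, 2), (2, 3), (1, 19)], [(3, 1), (1, 2), (1, 3), (1, 20)], [(2, 0), (2, 1), (4, 2), (1, 21)], [(4, 0), (4, 1), (2, 3), (1, 22)], [(1, 0), (3, 2), (3, 3), (1, 23)], [(1, 0), (1, 1), (4, 2), (1, 3), (1, 24)], [(4, 1), (2, 2), (1, 3), (1, 25)], [(4, 0), (1, 1), (1, 2), (1, 3), (1, 26)], [(2, 0), (1, 1), (4, 3), (1, 27)], [(1, 0), (2, 1), (4, 3), (1, 28)], [(2, 0), (4, 2), (3, 3), (1, 29)], [(1, 1), (4, 2), (3, 3), (1, 30)], [(1, 0), (2, 1), (3, 2), (1, 31)]]⟩],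
  [[(4, 1), (4, 3)], [(2, 0), (2, 2)], [(2, 0), (1, 1), (3, 2), (4, 3)], [(3, 0), (2, 1), (2, 2), (3, 3)]],
  [[1, 16, 256, 4096]]⟩

/-- The certificate, case 5DD. -/
def fiveCert : Cert := ⟨fiveGens, fiveCands, [fivePair0]⟩

/-- The generators, case 3DDQ. -/
def threeQGens : List Mat := [
  [[(1, 0)], [(1, 1)], [(1, 2)], [(1, 3)], [(2, 4)], [(2, 5)], [(2, 6)], [(2, 7)]],
  [[(1, 4)], [(1, 5)], [(1, 6)], [(1, 7)], [(1, 0)], [(1, 1)], [(1, 2)], [(1, 3)]],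
  [[(1, 0)], [(1, 1)], [(2, 2)], [(2, 3)], [(1, 4)], [(1, 5)], [(2, 6)], [(2, 7)]],
  [[(1, 2)], [(1, 3)], [(1, 0)], [(1, 1)], [(1, 6)], [(1, 7)], [(1, 4)], [(1, 5)]],
  [[(1, 1)], [(2, 0)], [(1, 3)], [(2, 2)], [(1, 5)], [(2, 4)], [(1, 7)], [(2, 6)]],
  [[(1, 0), (1, 1)], [(1, 0), (2, 1)], [(1, 2), (1, 3)], [(1, 2), (2, 3)], [(1, 4), (1, 5)], [(1, 4), (2, 5)], [(1, 6), (1, 7)], [(1, 6), (2, 7)]]]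

/-- The candidates, case 3DDQ. -/
def threeQCands : List Cand := [
  ⟨1, [], [[(1, 0)], [(1, 1)], [(1, 2)], [(1, 3)], [(1, 4)], [(1, 5)], [(1, 6)], [(1, 7)]]⟩,
  ⟨1, [1], [[(1, 4)], [(1, 5)], [(1, 6)], [(1, 7)], [(1, 0)], [(1, 1)], [(1, 2)], [(1, 3)]]⟩,
  ⟨1, [0], [[(1, 0)], [(1, 1)], [(1, 2)], [(1, 3)], [(2, 4)], [(2, 5)], [(2, 6)], [(2, 7)]]⟩,
  ⟨1, [0, 1], [[(1, 4)], [(1, 5)], [(1, 6)], [(1, 7)], [(2, 0)], [(2, 1)], [(2, 2)], [(2, 3)]]⟩,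
  ⟨1, [3], [[(1, 2)], [(1, 3)], [(1, 0)], [(1, 1)], [(1, 6)], [(1, 7)], [(1, 4)], [(1, 5)]]⟩,
  ⟨1, [1, 3], [[(1, 6)], [(1, 7)], [(1, 4)], [(1, 5)], [(1, 2)], [(1, 3)], [(1, 0)], [(1, 1)]]⟩,
  ⟨1, [0, 3], [[(1, 2)], [(1, 3)], [(1, 0)], [(1, 1)], [(2, 6)], [(2, 7)], [(2, 4)], [(2, 5)]]⟩,
  ⟨1, [0, 1, 3], [[(1, 6)], [(1, 7)], [(1, 4)], [(1, 5)], [(2, 2)], [(2, 3)], [(2, 0)], [(2, 1)]]⟩,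
  ⟨1, [2], [[(1, 0)], [(1, 1)], [(2, 2)], [(2, 3)], [(1, 4)], [(1, 5)], [(2, 6)], [(2, 7)]]⟩,
  ⟨1, [1, 2], [[(1, 4)], [(1, 5)], [(2, 6)], [(2, 7)], [(1, 0)], [(1, 1)], [(2, 2)], [(2, 3)]]⟩,
  ⟨1, [0, 2], [[(1, 0)], [(1, 1)], [(2, 2)], [(2, 3)], [(2, 4)], [(2, 5)], [(1, 6)], [(1, 7)]]⟩,
  ⟨1, [0, 1, 2], [[(1, 4)], [(1, 5)], [(2, 6)], [(2, 7)], [(2, 0)], [(2, 1)], [(1, 2)], [(1, 3)]]⟩,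
  ⟨1, [2, 3], [[(1, 2)], [(1, 3)], [(2, 0)], [(2, 1)], [(1, 6)], [(1, 7)], [(2, 4)], [(2, 5)]]⟩,
  ⟨1, [1, 2, 3], [[(1, 6)], [(1, 7)], [(2, 4)], [(2, 5)], [(1, 2)], [(1, 3)], [(2, 0)], [(2, 1)]]⟩,
  ⟨1, [0, 2, 3], [[(1, 2)], [(1, 3)], [(2, 0)], [(2, 1)], [(2, 6)], [(2, 7)], [(1, 4)], [(1, 5)]]⟩,
  ⟨1, [0, 1, 2, 3], [[(1, 6)], [(1, 7)], [(2, 4)], [(2, 5)], [(2, 2)], [(2, 3)], [(1, 0)], [(1, 1)]]⟩,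
  ⟨1, [5], [[(1, 0), (1, 1)], [(1, 0), (2, 1)], [(1, 2), (1, 3)], [(1, 2), (2, 3)], [(1, 4), (1, 5)], [(1, 4), (2, 5)], [(1, 6), (1, 7)], [(1, 6), (2, 7)]]⟩,
  ⟨1, [1, 5], [[(1, 4), (1, 5)], [(1, 4), (2, 5)], [(1, 6), (1, 7)], [(1, 6), (2, 7)], [(1, 0), (1, 1)], [(1, 0), (2, 1)], [(1, 2), (1, 3)], [(1, 2), (2, 3)]]⟩,
  ⟨1, [0, 5], [[(1, 0), (1, 1)], [(1, 0), (2, 1)], [(1, 2), (1, 3)], [(1, 2), (2, 3)], [(2, 4), (2, 5)], [(2, 4), (1, 5)], [(2, 6), (2, 7)], [(2, 6), (1, 7)]]⟩,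
  ⟨1, [0, 1, 5], [[(1, 4), (1, 5)], [(1, 4), (2, 5)], [(1, 6), (1, 7)], [(1, 6), (2, 7)], [(2, 0), (2, 1)], [(2, 0), (1, 1)], [(2, 2), (2, 3)], [(2, 2), (1, 3)]]⟩,
  ⟨1, [3, 5], [[(1, 2), (1, 3)], [(1, 2), (2, 3)], [(1, 0), (1, 1)], [(1, 0), (2, 1)], [(1, 6), (1, 7)], [(1, 6), (2, 7)], [(1, 4), (1, 5)], [(1, 4), (2, 5)]]⟩,
  ⟨1, [1, 3, 5], [[(1, 6), (1, 7)], [(1, 6), (2, 7)], [(1, 4), (1, 5)], [(1, 4), (2, 5)], [(1, 2), (1, 3)], [(1, 2), (2, 3)], [(1, 0), (1, 1)], [(1, 0), (2, 1)]]⟩,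
  ⟨1, [0, 3, 5], [[(1, 2), (1, 3)], [(1, 2), (2, 3)], [(1, 0), (1, 1)], [(1, 0), (2, 1)], [(2, 6), (2, 7)], [(2, 6), (1, 7)], [(2, 4), (2, 5)], [(2, 4), (1, 5)]]⟩,
  ⟨1, [0, 1, 3, 5], [[(1, 6), (1, 7)], [(1, 6), (2, 7)], [(1, 4), (1, 5)], [(1, 4), (2, 5)], [(2, 2), (2, 3)], [(2, 2), (1, 3)], [(2, 0), (2, 1)], [(2, 0), (1, 1)]]⟩,
  ⟨1, [2, 5], [[(1, 0), (1, 1)], [(1, 0), (2, 1)], [(2, 2), (2, 3)], [(2, 2), (1, 3)], [(1, 4), (1, 5)], [(1, 4), (2, 5)], [(2, 6), (2, 7)], [(2, 6), (1, 7)]]⟩,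
  ⟨1, [1, 2, 5], [[(1, 4), (1, 5)], [(1, 4), (2, 5)], [(2, 6), (2, 7)], [(2, 6), (1, 7)], [(1, 0), (1, 1)], [(1, 0), (2, 1)], [(2, 2), (2, 3)], [(2, 2), (1, 3)]]⟩,
  ⟨1, [0, 2, 5], [[(1, 0), (1, 1)], [(1, 0), (2, 1)], [(2, 2), (2, 3)], [(2, 2), (1, 3)], [(2, 4), (2, 5)], [(2, 4), (1, 5)], [(1, 6), (1, 7)], [(1, 6), (2, 7)]]⟩,
  ⟨1, [0, 1, 2, 5], [[(1, 4), (1, 5)], [(1, 4), (2, 5)], [(2, 6), (2, 7)], [(2, 6), (1, 7)], [(2, 0), (2, 1)], [(2, 0), (1, 1)], [(1, 2), (1, 3)], [(1, 2), (2, 3)]]⟩,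
  ⟨1, [2, 3, 5], [[(1, 2), (1, 3)], [(1, 2), (2, 3)], [(2, 0), (2, 1)], [(2, 0), (1, 1)], [(1, 6), (1, 7)], [(1, 6), (2, 7)], [(2, 4), (2, 5)], [(2, 4), (1, 5)]]⟩,
  ⟨1, [1, 2, 3, 5], [[(1, 6), (1, 7)], [(1, 6), (2, 7)], [(2, 4), (2, 5)], [(2, 4), (1, 5)], [(1, 2), (1, 3)], [(1, 2), (2, 3)], [(2, 0), (2, 1)], [(2, 0), (1, 1)]]⟩,
  ⟨1, [0, 2, 3, 5], [[(1, 2), (1, 3)], [(1, 2), (2, 3)], [(2, 0), (2, 1)], [(2, 0), (1, 1)], [(2, 6), (2, 7)], [(2, 6), (1, 7)], [(1, 4), (1, 5)], [(1, 4), (2, 5)]]⟩,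
  ⟨1, [0, 1, 2, 3, 5], [[(1, 6), (1, 7)], [(1, 6), (2, 7)], [(2, 4), (2, 5)], [(2, 4), (1, 5)], [(2, 2), (2, 3)], [(2, 2), (1, 3)], [(1, 0), (1, 1)], [(1, 0), (2, 1)]]⟩,
  ⟨1, [4], [[(1, 1)], [(2, 0)], [(1, 3)], [(2, 2)], [(1, 5)], [(2, 4)], [(1, 7)], [(2, 6)]]⟩,
  ⟨1, [1, 4], [[(1, 5)], [(2, 4)], [(1, 7)], [(2, 6)], [(1, 1)], [(2, 0)], [(1, 3)], [(2, 2)]]⟩,
  ⟨1, [0, 4], [[(1, 1)], [(2, 0)], [(1, 3)], [(2, 2)], [(2, 5)], [(1, 4)], [(2, 7)], [(1, 6)]]⟩,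
  ⟨1, [0, 1, 4], [[(1, 5)], [(2, 4)], [(1, 7)], [(2, 6)], [(2, 1)], [(1, 0)], [(2, 3)], [(1, 2)]]⟩,
  ⟨1, [3, 4], [[(1, 3)], [(2, 2)], [(1, 1)], [(2, 0)], [(1, 7)], [(2, 6)], [(1, 5)], [(2, 4)]]⟩,
  ⟨1, [1, 3, 4], [[(1, 7)], [(2, 6)], [(1, 5)], [(2, 4)], [(1, 3)], [(2, 2)], [(1, 1)], [(2, 0)]]⟩,
  ⟨1, [0, 3, 4], [[(1, 3)], [(2, 2)], [(1, 1)], [(2, 0)], [(2, 7)], [(1, 6)], [(2, 5)], [(1, 4)]]⟩,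
  ⟨1, [0, 1, 3, 4], [[(1, 7)], [(2, 6)], [(1, 5)], [(2, 4)], [(2, 3)], [(1, 2)], [(2, 1)], [(1, 0)]]⟩,
  ⟨1, [2, 4], [[(1, 1)], [(2, 0)], [(2, 3)], [(1, 2)], [(1, 5)], [(2, 4)], [(2, 7)], [(1, 6)]]⟩,
  ⟨1, [1, 2, 4], [[(1, 5)], [(2, 4)], [(2, 7)], [(1, 6)], [(1, 1)], [(2, 0)], [(2, 3)], [(1, 2)]]⟩,
  ⟨1, [0, 2, 4], [[(1, 1)], [(2, 0)], [(2, 3)], [(1, 2)], [(2, 5)], [(1, 4)], [(1, 7)], [(2, 6)]]⟩,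
  ⟨1, [0, 1, 2, 4], [[(1, 5)], [(2, 4)], [(2, 7)], [(1, 6)], [(2, 1)], [(1, 0)], [(1, 3)], [(2, 2)]]⟩,
  ⟨1, [2, 3, 4], [[(1, 3)], [(2, 2)], [(2, 1)], [(1, 0)], [(1, 7)], [(2, 6)], [(2, 5)], [(1, 4)]]⟩,
  ⟨1, [1, 2, 3, 4], [[(1, 7)], [(2, 6)], [(2, 5)], [(1, 4)], [(1, 3)], [(2, 2)], [(2, 1)], [(1, 0)]]⟩,
  ⟨1, [0, 2, 3, 4], [[(1, 3)], [(2, 2)], [(2, 1)], [(1, 0)], [(2, 7)], [(1, 6)], [(1, 5)], [(2, 4)]]⟩,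
  ⟨1, [0, 1, 2, 3, 4], [[(1, 7)], [(2, 6)], [(2, 5)], [(1, 4)], [(2, 3)], [(1, 2)], [(1, 1)], [(2, 0)]]⟩,
  ⟨1, [4, 5], [[(1, 0), (2, 1)], [(2, 0), (2, 1)], [(1, 2), (2, 3)], [(2, 2), (2, 3)], [(1, 4), (2, 5)], [(2, 4), (2, 5)], [(1, 6), (2, 7)], [(2, 6), (2, 7)]]⟩,
  ⟨1, [1, 4, 5], [[(1, 4), (2, 5)], [(2, 4), (2, 5)], [(1, 6), (2, 7)], [(2, 6), (2, 7)], [(1, 0), (2, 1)], [(2, 0), (2, 1)], [(1, 2), (2, 3)], [(2, 2), (2, 3)]]⟩,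
  ⟨1, [0, 4, 5], [[(1, 0), (2, 1)], [(2, 0), (2, 1)], [(1, 2), (2, 3)], [(2, 2), (2, 3)], [(2, 4), (1, 5)], [(1, 4), (1, 5)], [(2, 6), (1, 7)], [(1, 6), (1, 7)]]⟩,
  ⟨1, [0, 1, 4, 5], [[(1, 4), (2, 5)], [(2, 4), (2, 5)], [(1, 6), (2, 7)], [(2, 6), (2, 7)], [(2, 0), (1, 1)], [(1, 0), (1, 1)], [(2, 2), (1, 3)], [(1, 2), (1, 3)]]⟩,
  ⟨1, [3, 4, 5], [[(1, 2), (2, 3)], [(2, 2), (2, 3)], [(1, 0), (2, 1)], [(2, 0), (2, 1)], [(1, 6), (2, 7)], [(2, 6), (2, 7)], [(1, 4), (2, 5)], [(2, 4), (2, 5)]]⟩,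
  ⟨1, [1, 3, 4, 5], [[(1, 6), (2, 7)], [(2, 6), (2, 7)], [(1, 4), (2, 5)], [(2, 4), (2, 5)], [(1, 2), (2, 3)], [(2, 2), (2, 3)], [(1, 0), (2, 1)], [(2, 0), (2, 1)]]⟩,
  ⟨1, [0, 3, 4, 5], [[(1, 2), (2, 3)], [(2, 2), (2, 3)], [(1, 0), (2, 1)], [(2, 0), (2, 1)], [(2, 6), (1, 7)], [(1, 6), (1, 7)], [(2, 4), (1, 5)], [(1, 4), (1, 5)]]⟩,
  ⟨1, [0, 1, 3, 4, 5], [[(1, 6), (2, 7)], [(2, 6), (2, 7)], [(1, 4), (2, 5)], [(2, 4), (2, 5)], [(2, 2), (1, 3)], [(1, 2), (1, 3)], [(2, 0), (1, 1)], [(1, 0), (1, 1)]]⟩,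
  ⟨1, [2, 4, 5], [[(1, 0), (2, 1)], [(2, 0), (2, 1)], [(2, 2), (1, 3)], [(1, 2), (1, 3)], [(1, 4), (2, 5)], [(2, 4), (2, 5)], [(2, 6), (1, 7)], [(1, 6), (1, 7)]]⟩,
  ⟨1, [1, 2, 4, 5], [[(1, 4), (2, 5)], [(2, 4), (2, 5)], [(2, 6), (1, 7)], [(1, 6), (1, 7)], [(1, 0), (2, 1)], [(2, 0), (2, 1)], [(2, 2), (1, 3)], [(1, 2), (1, 3)]]⟩,
  ⟨1, [0, 2, 4, 5], [[(1, 0), (2, 1)], [(2, 0), (2, 1)], [(2, 2), (1, 3)], [(1, 2), (1, 3)], [(2, 4), (1, 5)], [(1, 4), (1, 5)], [(1, 6), (2, 7)], [(2, 6), (2, 7)]]⟩,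
  ⟨1, [0, 1, 2, 4, 5], [[(1, 4), (2, 5)], [(2, 4), (2, 5)], [(2, 6), (1, 7)], [(1, 6), (1, 7)], [(2, 0), (1, 1)], [(1, 0), (1, 1)], [(1, 2), (2, 3)], [(2, 2), (2, 3)]]⟩,
  ⟨1, [2, 3, 4, 5], [[(1, 2), (2, 3)], [(2, 2), (2, 3)], [(2, 0), (1, 1)], [(1, 0), (1, 1)], [(1, 6), (2, 7)], [(2, 6), (2, 7)], [(2, 4), (1, 5)], [(1, 4), (1, 5)]]⟩,
  ⟨1, [1, 2, 3, 4, 5], [[(1, 6), (2, 7)], [(2, 6), (2, 7)], [(2, 4), (1, 5)], [(1, 4), (1, 5)], [(1, 2), (2, 3)], [(2, 2), (2, 3)], [(2, 0), (1, 1)], [(1, 0), (1, 1)]]⟩,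
  ⟨1, [0, 2, 3, 4, 5], [[(1, 2), (2, 3)], [(2, 2), (2, 3)], [(2, 0), (1, 1)], [(1, 0), (1, 1)], [(2, 6), (1, 7)], [(1, 6), (1, 7)], [(1, 4), (2, 5)], [(2, 4), (2, 5)]]⟩,
  ⟨1, [0, 1, 2, 3, 4, 5], [[(1, 6), (2, 7)], [(2, 6), (2, 7)], [(2, 4), (1, 5)], [(1, 4), (1, 5)], [(2, 2), (1, 3)], [(1, 2), (1, 3)], [(1, 0), (2, 1)], [(2, 0), (2, 1)]]⟩,
  ⟨2, [], [[(2, 0)], [(2, 1)], [(2, 2)], [(2, 3)], [(2, 4)], [(2, 5)], [(2, 6)], [(2, 7)]]⟩,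
  ⟨2, [1], [[(2, 4)], [(2, 5)], [(2, 6)], [(2, 7)], [(2, 0)], [(2, 1)], [(2, 2)], [(2, 3)]]⟩,
  ⟨2, [0], [[(2, 0)], [(2, 1)], [(2, 2)], [(2, 3)], [(1, 4)], [(1, 5)], [(1, 6)], [(1, 7)]]⟩,
  ⟨2, [0, 1], [[(2, 4)], [(2, 5)], [(2, 6)], [(2, 7)], [(1, 0)], [(1, 1)], [(1, 2)], [(1, 3)]]⟩,
  ⟨2, [3], [[(2, 2)], [(2, 3)], [(2, 0)], [(2, 1)], [(2, 6)], [(2, 7)], [(2, 4)], [(2, 5)]]⟩,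
  ⟨2, [1, 3], [[(2, 6)], [(2, 7)], [(2, 4)], [(2, 5)], [(2, 2)], [(2, 3)], [(2, 0)], [(2, 1)]]⟩,
  ⟨2, [0, 3], [[(2, 2)], [(2, 3)], [(2, 0)], [(2, 1)], [(1, 6)], [(1, 7)], [(1, 4)], [(1, 5)]]⟩,
  ⟨2, [0, 1, 3], [[(2, 6)], [(2, 7)], [(2, 4)], [(2, 5)], [(1, 2)], [(1, 3)], [(1, 0)], [(1, 1)]]⟩,
  ⟨2, [2], [[(2, 0)], [(2, 1)], [(1, 2)], [(1, 3)], [(2, 4)], [(2, 5)], [(1, 6)], [(1, 7)]]⟩,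
  ⟨2, [1, 2], [[(2, 4)], [(2, 5)], [(1, 6)], [(1, 7)], [(2, 0)], [(2, 1)], [(1, 2)], [(1, 3)]]⟩,
  ⟨2, [0, 2], [[(2, 0)], [(2, 1)], [(1, 2)], [(1, 3)], [(1, 4)], [(1, 5)], [(2, 6)], [(2, 7)]]⟩,
  ⟨2, [0, 1, 2], [[(2, 4)], [(2, 5)], [(1, 6)], [(1, 7)], [(1, 0)], [(1, 1)], [(2, 2)], [(2, 3)]]⟩,
  ⟨2, [2, 3], [[(2, 2)], [(2, 3)], [(1, 0)], [(1, 1)], [(2, 6)], [(2, 7)], [(1, 4)], [(1, 5)]]⟩,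
  ⟨2, [1, 2, 3], [[(2, 6)], [(2, 7)], [(1, 4)], [(1, 5)], [(2, 2)], [(2, 3)], [(1, 0)], [(1, 1)]]⟩,
  ⟨2, [0, 2, 3], [[(2, 2)], [(2, 3)], [(1, 0)], [(1, 1)], [(1, 6)], [(1, 7)], [(2, 4)], [(2, 5)]]⟩,
  ⟨2, [0, 1, 2, 3], [[(2, 6)], [(2, 7)], [(1, 4)], [(1, 5)], [(1, 2)], [(1, 3)], [(2, 0)], [(2, 1)]]⟩,
  ⟨2, [5], [[(2, 0), (2, 1)], [(2, 0), (1, 1)], [(2, 2), (2, 3)], [(2, 2), (1, 3)], [(2, 4), (2, 5)], [(2, 4), (1, 5)], [(2, 6), (2, 7)], [(2, 6), (1, 7)]]⟩,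
  ⟨2, [1, 5], [[(2, 4), (2, 5)], [(2, 4), (1, 5)], [(2, 6), (2, 7)], [(2, 6), (1, 7)], [(2, 0), (2, 1)], [(2, 0), (1, 1)], [(2, 2), (2, 3)], [(2, 2), (1, 3)]]⟩,
  ⟨2, [0, 5], [[(2, 0), (2, 1)], [(2, 0), (1, 1)], [(2, 2), (2, 3)], [(2, 2), (1, 3)], [(1, 4), (1, 5)], [(1, 4), (2, 5)], [(1, 6), (1, 7)], [(1, 6), (2, 7)]]⟩,
  ⟨2, [0, 1, 5], [[(2, 4), (2, 5)], [(2, 4), (1, 5)], [(2, 6), (2, 7)], [(2, 6), (1, 7)], [(1, 0), (1, 1)], [(1, 0), (2, 1)], [(1, 2), (1, 3)], [(1, 2), (2, 3)]]⟩,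
  ⟨2, [3, 5], [[(2, 2), (2, 3)], [(2, 2), (1, 3)], [(2, 0), (2, 1)], [(2, 0), (1, 1)], [(2, 6), (2, 7)], [(2, 6), (1, 7)], [(2, 4), (2, 5)], [(2, 4), (1, 5)]]⟩,
  ⟨2, [1, 3, 5], [[(2, 6), (2, 7)], [(2, 6), (1, 7)], [(2, 4), (2, 5)], [(2, 4), (1, 5)], [(2, 2), (2, 3)], [(2, 2), (1, 3)], [(2, 0), (2, 1)], [(2, 0), (1, 1)]]⟩,
  ⟨2, [0, 3, 5], [[(2, 2), (2, 3)], [(2, 2), (1, 3)], [(2, 0), (2, 1)], [(2, 0), (1, 1)], [(1, 6), (1, 7)], [(1, 6), (2, 7)], [(1, 4), (1, 5)], [(1, 4), (2, 5)]]⟩,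
  ⟨2, [0, 1, 3, 5], [[(2, 6), (2, 7)], [(2, 6), (1, 7)], [(2, 4), (2, 5)], [(2, 4), (1, 5)], [(1, 2), (1, 3)], [(1, 2), (2, 3)], [(1, 0), (1, 1)], [(1, 0), (2, 1)]]⟩,
  ⟨2, [2, 5], [[(2, 0), (2, 1)], [(2, 0), (1, 1)], [(1, 2), (1, 3)], [(1, 2), (2, 3)], [(2, 4), (2, 5)], [(2, 4), (1, 5)], [(1, 6), (1, 7)], [(1, 6), (2, 7)]]⟩,
  ⟨2, [1, 2, 5], [[(2, 4), (2, 5)], [(2, 4), (1, 5)], [(1, 6), (1, 7)], [(1, 6), (2, 7)], [(2, 0), (2, 1)], [(2, 0), (1, 1)], [(1, 2), (1, 3)], [(1, 2), (2, 3)]]⟩,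
  ⟨2, [0, 2, 5], [[(2, 0), (2, 1)], [(2, 0), (1, 1)], [(1, 2), (1, 3)], [(1, 2), (2, 3)], [(1, 4), (1, 5)], [(1, 4), (2, 5)], [(2, 6), (2, 7)], [(2, 6), (1, 7)]]⟩,
  ⟨2, [0, 1, 2, 5], [[(2, 4), (2, 5)], [(2, 4), (1, 5)], [(1, 6), (1, 7)], [(1, 6), (2, 7)], [(1, 0), (1, 1)], [(1, 0), (2, 1)], [(2, 2), (2, 3)], [(2, 2), (1, 3)]]⟩,
  ⟨2, [2, 3, 5], [[(2, 2), (2, 3)], [(2, 2), (1, 3)], [(1, 0), (1, 1)], [(1, 0), (2, 1)], [(2, 6), (2, 7)], [(2, 6), (1, 7)], [(1, 4), (1, 5)], [(1, 4), (2, 5)]]⟩,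
  ⟨2, [1, 2, 3, 5], [[(2, 6), (2, 7)], [(2, 6), (1, 7)], [(1, 4), (1, 5)], [(1, 4), (2, 5)], [(2, 2), (2, 3)], [(2, 2), (1, 3)], [(1, 0), (1, 1)], [(1, 0), (2, 1)]]⟩,
  ⟨2, [0, 2, 3, 5], [[(2, 2), (2, 3)], [(2, 2), (1, 3)], [(1, 0), (1, 1)], [(1, 0), (2, 1)], [(1, 6), (1, 7)], [(1, 6), (2, 7)], [(2, 4), (2, 5)], [(2, 4), (1, 5)]]⟩,
  ⟨2, [0, 1, 2, 3, 5], [[(2, 6), (2, 7)], [(2, 6), (1, 7)], [(1, 4), (1, 5)], [(1, 4), (2, 5)], [(1, 2), (1, 3)], [(1, 2), (2, 3)], [(2, 0), (2, 1)], [(2, 0), (1, 1)]]⟩,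
  ⟨2, [4], [[(2, 1)], [(1, 0)], [(2, 3)], [(1, 2)], [(2, 5)], [(1, 4)], [(2, 7)], [(1, 6)]]⟩,
  ⟨2, [1, 4], [[(2, 5)], [(1, 4)], [(2, 7)], [(1, 6)], [(2, 1)], [(1, 0)], [(2, 3)], [(1, 2)]]⟩,
  ⟨2, [0, 4], [[(2, 1)], [(1, 0)], [(2, 3)], [(1, 2)], [(1, 5)], [(2, 4)], [(1, 7)], [(2, 6)]]⟩,
  ⟨2, [0, 1, 4], [[(2, 5)], [(1, 4)], [(2, 7)], [(1, 6)], [(1, 1)], [(2, 0)], [(1, 3)], [(2, 2)]]⟩,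
  ⟨2, [3, 4], [[(2, 3)], [(1, 2)], [(2, 1)], [(1, 0)], [(2, 7)], [(1, 6)], [(2, 5)], [(1, 4)]]⟩,
  ⟨2, [1, 3, 4], [[(2, 7)], [(1, 6)], [(2, 5)], [(1, 4)], [(2, 3)], [(1, 2)], [(2, 1)], [(1, 0)]]⟩,
  ⟨2, [0, 3, 4], [[(2, 3)], [(1, 2)], [(2, 1)], [(1, 0)], [(1, 7)], [(2, 6)], [(1, 5)], [(2, 4)]]⟩,
  ⟨2, [0, 1, 3, 4], [[(2, 7)], [(1, 6)], [(2, 5)], [(1, 4)], [(1, 3)], [(2, 2)], [(1, 1)], [(2, 0)]]⟩,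
  ⟨2, [2, 4], [[(2, 1)], [(1, 0)], [(1, 3)], [(2, 2)], [(2, 5)], [(1, 4)], [(1, 7)], [(2, 6)]]⟩,
  ⟨2, [1, 2, 4], [[(2, 5)], [(1, 4)], [(1, 7)], [(2, 6)], [(2, 1)], [(1, 0)], [(1, 3)], [(2, 2)]]⟩,
  ⟨2, [0, 2, 4], [[(2, 1)], [(1, 0)], [(1, 3)], [(2, 2)], [(1, 5)], [(2, 4)], [(2, 7)], [(1, 6)]]⟩,
  ⟨2, [0, 1, 2, 4], [[(2, 5)], [(1, 4)], [(1, 7)], [(2, 6)], [(1, 1)], [(2, 0)], [(2, 3)], [(1, 2)]]⟩,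
  ⟨2, [2, 3, 4], [[(2, 3)], [(1, 2)], [(1, 1)], [(2, 0)], [(2, 7)], [(1, 6)], [(1, 5)], [(2, 4)]]⟩,
  ⟨2, [1, 2, 3, 4], [[(2, 7)], [(1, 6)], [(1, 5)], [(2, 4)], [(2, 3)], [(1, 2)], [(1, 1)], [(2, 0)]]⟩,
  ⟨2, [0, 2, 3, 4], [[(2, 3)], [(1, 2)], [(1, 1)], [(2, 0)], [(1, 7)], [(2, 6)], [(2, 5)], [(1, 4)]]⟩,
  ⟨2, [0, 1, 2, 3, 4], [[(2, 7)], [(1, 6)], [(1, 5)], [(2, 4)], [(1, 3)], [(2, 2)], [(2, 1)], [(1, 0)]]⟩,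
  ⟨2, [4, 5], [[(2, 0), (1, 1)], [(1, 0), (1, 1)], [(2, 2), (1, 3)], [(1, 2), (1, 3)], [(2, 4), (1, 5)], [(1, 4), (1, 5)], [(2, 6), (1, 7)], [(1, 6), (1, 7)]]⟩,
  ⟨2, [1, 4, 5], [[(2, 4), (1, 5)], [(1, 4), (1, 5)], [(2, 6), (1, 7)], [(1, 6), (1, 7)], [(2, 0), (1, 1)], [(1, 0), (1, 1)], [(2, 2), (1, 3)], [(1, 2), (1, 3)]]⟩,
  ⟨2, [0, 4, 5], [[(2, 0), (1, 1)], [(1, 0), (1, 1)], [(2, 2), (1, 3)], [(1, 2), (1, 3)], [(1, 4), (2, 5)], [(2, 4), (2, 5)], [(1, 6), (2, 7)], [(2, 6), (2, 7)]]⟩,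
  ⟨2, [0, 1, 4, 5], [[(2, 4), (1, 5)], [(1, 4), (1, 5)], [(2, 6), (1, 7)], [(1, 6), (1, 7)], [(1, 0), (2, 1)], [(2, 0), (2, 1)], [(1, 2), (2, 3)], [(2, 2), (2, 3)]]⟩,
  ⟨2, [3, 4, 5], [[(2, 2), (1, 3)], [(1, 2), (1, 3)], [(2, 0), (1, 1)], [(1, 0), (1, 1)], [(2, 6), (1, 7)], [(1, 6), (1, 7)], [(2, 4), (1, 5)], [(1, 4), (1, 5)]]⟩,
  ⟨2, [1, 3, 4, 5], [[(2, 6), (1, 7)], [(1, 6), (1, 7)], [(2, 4), (1, 5)], [(1, 4), (1, 5)], [(2, 2), (1, 3)], [(1, 2), (1, 3)], [(2, 0), (1, 1)], [(1, 0), (1, 1)]]⟩,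
  ⟨2, [0, 3, 4, 5], [[(2, 2), (1, 3)], [(1, 2), (1, 3)], [(2, 0), (1, 1)], [(1, 0), (1, 1)], [(1, 6), (2, 7)], [(2, 6), (2, 7)], [(1, 4), (2, 5)], [(2, 4), (2, 5)]]⟩,
  ⟨2, [0, 1, 3, 4, 5], [[(2, 6), (1, 7)], [(1, 6), (1, 7)], [(2, 4), (1, 5)], [(1, 4), (1, 5)], [(1, 2), (2, 3)], [(2, 2), (2, 3)], [(1, 0), (2, 1)], [(2, 0), (2, 1)]]⟩,
  ⟨2, [2, 4, 5], [[(2, 0), (1, 1)], [(1, 0), (1, 1)], [(1, 2), (2, 3)], [(2, 2), (2, 3)], [(2, 4), (1, 5)], [(1, 4), (1, 5)], [(1, 6), (2, 7)], [(2, 6), (2, 7)]]⟩,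
  ⟨2, [1, 2, 4, 5], [[(2, 4), (1, 5)], [(1, 4), (1, 5)], [(1, 6), (2, 7)], [(2, 6), (2, 7)], [(2, 0), (1, 1)], [(1, 0), (1, 1)], [(1, 2), (2, 3)], [(2, 2), (2, 3)]]⟩,
  ⟨2, [0, 2, 4, 5], [[(2, 0), (1, 1)], [(1, 0), (1, 1)], [(1, 2), (2, 3)], [(2, 2), (2, 3)], [(1, 4), (2, 5)], [(2, 4), (2, 5)], [(2, 6), (1, 7)], [(1, 6), (1, 7)]]⟩,
  ⟨2, [0, 1, 2, 4, 5], [[(2, 4), (1, 5)], [(1, 4), (1, 5)], [(1, 6), (2, 7)], [(2, 6), (2, 7)], [(1, 0), (2, 1)], [(2, 0), (2, 1)], [(2, 2), (1, 3)], [(1, 2), (1, 3)]]⟩,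
  ⟨2, [2, 3, 4, 5], [[(2, 2), (1, 3)], [(1, 2), (1, 3)], [(1, 0), (2, 1)], [(2, 0), (2, 1)], [(2, 6), (1, 7)], [(1, 6), (1, 7)], [(1, 4), (2, 5)], [(2, 4), (2, 5)]]⟩,
  ⟨2, [1, 2, 3, 4, 5], [[(2, 6), (1, 7)], [(1, 6), (1, 7)], [(1, 4), (2, 5)], [(2, 4), (2, 5)], [(2, 2), (1, 3)], [(1, 2), (1, 3)], [(1, 0), (2, 1)], [(2, 0), (2, 1)]]⟩,
  ⟨2, [0, 2, 3, 4, 5], [[(2, 2), (1, 3)], [(1, 2), (1, 3)], [(1, 0), (2, 1)], [(2, 0), (2, 1)], [(1, 6), (2, 7)], [(2, 6), (2, 7)], [(2, 4), (1, 5)], [(1, 4), (1, 5)]]⟩,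
  ⟨2, [0, 1, 2, 3, 4, 5], [[(2, 6), (1, 7)], [(1, 6), (1, 7)], [(1, 4), (2, 5)], [(2, 4), (2, 5)], [(1, 2), (2, 3)], [(2, 2), (2, 3)], [(2, 0), (1, 1)], [(1, 0), (1, 1)]]⟩]

/-- Pair 0, case 3DDQ. -/
def threeQPair0 : PairData := ⟨538968320, 65793, [
    ⟨[0], 1, [], []⟩,
    ⟨[2], 1, [1], [[(1, 0), (2, 1), (1, 2), (1, 5)], [(1, 0), (1, 2), (1, 4), (1, 6)], [(1, 0), (1, 2), (2, 3), (1, 7)]]⟩,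
    ⟨[3], 1, [2, 1], [[(1, 1), (1, 2), (1, 3), (1, 8)], [(1, 0), (1, 1), (1, 3), (1, 10)], [(2, 1), (2, 3), (1, 9), (1, 11)], [(2, 1), (2, 3), (1, 4), (1, 12)], [(2, 0), (1, 1), (2, 2), (1, 3), (2, 9), (1, 13)], [(2, 0), (2, 1), (2, 2), (2, 3), (2, 4), (1, 14)], [(2, 0), (2, 2), (1, 9), (1, 15)]]⟩,
    ⟨[1], 1, [1, 1, 2], [[(2, 0), (1, 1), (2, 2), (2, 3), (2, 9), (1, 17)], [(1, 1), (1, 3), (1, 9), (1, 16), (1, 18)], [(1, 0), (2, 1), (1, 2), (2, 9), (1, 19)], [(2, 0), (2, 2), (1, 3), (1, 9), (1, 21)], [(2, 1), (2, 3), (2, 9), (1, 20), (1, 22)], [(1, 0), (1, 1), (1, 2), (2, 3), (1, 9), (1, 23)], [(2, 1), (1, 9), (2, 16), (1, 24)], [(1, 0), (1, 2), (1, 3), (2, 9), (1, 25)], [(1, 3), (2, 9), (1, 16), (1, 26)], [(2, 0), (2, 2), (1, 3), (2, 9), (1, 27)],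 [(2, 3), (1, 9), (1, 20), (1, 28)], [(1, 0), (1, 1), (1, 2), (2, 9), (1, 29)], [(1, 1), (2, 9), (2, 20), (1, 30)], [(2, 0), (1, 1), (2, 2), (2, 9), (1, 31)]]⟩,
    ⟨[4], 2, [1, 1, 1, 1], [[(1, 1), (2, 9), (1, 16), (2, 20), (1, 32)], [(1, 0), (1, 1), (1, 3), (1, 4), (1, 9), (2, 16), (1, 33)], [(1, 1), (2, 3), (1, 16), (2, 20), (1, 34)], [(2, 0), (1, 1), (1, 3), (2, 4), (1, 9), (2, 16), (1, 35)], [(2, 3), (1, 9), (2, 16), (1, 20), (1, 36)], [(1, 0), (2, 1), (2, 3), (1, 4), (2, 9), (2, 20), (1, 37)], [(1, 1), (2, 3), (2, 16), (1, 20), (1, 38)], [(2, 0), (2, 1), (2, 3), (2, 4), (2, 9), (2, 20), (1, 39)], [(2, 3), (1, 9), (1, 16), (1, 20), (1, 40)], [(1, 1), (2, 2), (1, 3), (2, 4), (1, 9), (2, 16), (1, 41)], [(1, 3), (2, 9), (1, 16), (1, 20), (1, 42)],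 [(1, 1), (1, 2), (1, 3), (1, 4), (1, 9), (2, 16), (1, 43)], [(2, 1), (1, 9), (2, 16), (2, 20), (1, 44)], [(1, 1), (2, 2), (1, 3), (2, 4), (1, 9), (1, 20), (1, 45)], [(1, 1), (2, 9), (2, 16), (2, 20), (1, 46)], [(1, 1), (1, 2), (1, 3), (1, 4), (1, 9), (1, 20), (1, 47)], [(2, 1), (2, 2), (2, 3), (2, 4), (1, 48)], [(1, 0), (2, 2), (1, 16), (1, 20), (1, 49)], [(1, 1), (2, 2), (1, 3), (2, 4), (1, 50)], [(1, 0), (2, 2), (2, 16), (2, 20), (1, 51)], [(2, 0), (2, 1), (2, 3), (1, 4), (1, 52)], [(1, 0), (1, 2), (2, 4), (1, 16), (1, 20), (1, 53)], [(1, 0), (1, 1), (2, 2), (1, 3), (1, 4), (1, 54)], [(1, 0), (1, 2), (2, 4), (2, 16), (2, 20), (1, 55)], [(1, 0), (2, 1), (2, 3), (1, 4), (1, 56)], [(1, 0), (1, 1), (2, 2), (1, 3), (1, 9), (1, 16), (2, 20), (1, 57)],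 [(1, 0), (1, 1), (1, 3), (1, 4), (1, 58)], [(1, 0), (2, 1), (2, 2), (2, 3), (2, 9), (2, 16), (1, 20), (1, 59)], [(1, 1), (1, 2), (1, 3), (2, 4), (1, 60)], [(2, 0), (1, 1), (2, 2), (1, 3), (1, 4), (1, 9), (1, 16), (2, 20), (1, 61)], [(1, 0), (2, 1), (2, 2), (2, 3), (2, 4), (1, 62)], [(2, 0), (2, 1), (2, 2), (2, 3), (1, 4), (2, 9), (2, 16), (1, 20), (1, 63)]]⟩,
    ⟨[5], 2, [2, 1, 1, 1, 1], [[(2, 1), (2, 2), (1, 3), (2, 16), (1, 20), (1, 64)], [(2, 0), (1, 1), (2, 3), (2, 4), (2, 9), (1, 16), (1, 65)], [(2, 0), (2, 1), (1, 9), (2, 16), (1, 20), (1, 66)], [(1, 0), (2, 1), (1, 3), (1, 4), (2, 9), (1, 16), (1, 67)], [(1, 0), (2, 1), (1, 2), (1, 3), (1, 4), (1, 16), (2, 20), (1, 68)], [(1, 2), (1, 3), (2, 4), (1, 9), (1, 20), (1, 69)], [(1, 3), (2, 4),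 (2, 9), (1, 16), (2, 20), (1, 70)], [(2, 0), (1, 1), (1, 2), (1, 4), (1, 9), (1, 20), (1, 71)], [(1, 0), (1, 1), (1, 9), (2, 16), (2, 20), (1, 72)], [(2, 1), (1, 2), (2, 3), (1, 4), (1, 9), (1, 16), (1, 73)], [(1, 1), (1, 2), (2, 3), (2, 9), (2, 16), (2, 20), (1, 74)], [(1, 1), (2, 2), (1, 3), (2, 4), (1, 16), (1, 75)], [(2, 0), (1, 1), (2, 2), (2, 3), (2, 4), (1, 9), (1, 16), (1, 20), (1, 76)], [(2, 0), (1, 4), (1, 9), (2, 20), (1, 77)], [(2, 3), (1, 4), (2, 9), (1, 16), (1, 20), (1, 78)], [(2, 0), (2, 1), (1, 2), (2, 3), (2, 4), (2, 20), (1, 79)], [(1, 2), (1, 4), (1, 9), (1, 16), (1, 80)], [(1, 0), (1, 1), (2, 3), (2, 9), (2, 16), (2, 20), (1, 81)], [(1, 1), (1, 2), (1, 3), (1, 4), (2, 16), (1, 82)], [(2, 1), (2, 2), (2, 9), (1, 16), (1, 20),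 (1, 83)], [(2, 0), (1, 1), (1, 2), (1, 3), (2, 4), (2, 9), (1, 20), (1, 84)], [(1, 0), (1, 2), (1, 3), (1, 4), (1, 9), (2, 16), (2, 20), (1, 85)], [(1, 0), (1, 1), (1, 3), (2, 4), (2, 20), (1, 86)], [(1, 1), (2, 3), (1, 4), (1, 9), (1, 16), (1, 20), (1, 87)], [(2, 0), (2, 1), (2, 4), (2, 9), (1, 16), (1, 88)], [(2, 1), (2, 2), (1, 9), (2, 16), (1, 20), (1, 89)], [(2, 0), (1, 3), (2, 4), (1, 9), (2, 16), (1, 90)], [(1, 0), (1, 1), (2, 3), (1, 16), (2, 20), (1, 91)], [(2, 0), (2, 1), (1, 2), (1, 3), (1, 4), (2, 9), (2, 20), (1, 92)], [(2, 0), (2, 2), (2, 3), (2, 4), (1, 9), (2, 16), (1, 20), (1, 93)], [(2, 1), (2, 2), (1, 3), (1, 4), (1, 9), (1, 20), (1, 94)], [(2, 1), (1, 3), (2, 4), (1, 16), (2, 20), (1, 95)], [(2, 1), (1, 2), (1, 3), (2, 16), (1,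 20), (1, 96)], [(2, 0), (2, 3), (2, 4), (2, 9), (1, 16), (1, 97)], [(1, 0), (2, 1), (1, 9), (2, 16), (1, 20), (1, 98)], [(1, 0), (2, 1), (1, 4), (2, 9), (1, 16), (1, 99)], [(2, 0), (2, 1), (2, 2), (1, 3), (2, 4), (1, 16), (2, 20), (1, 100)], [(1, 0), (2, 1), (2, 2), (1, 3), (2, 4), (1, 9), (1, 20), (1, 101)], [(1, 3), (1, 4), (2, 9), (1, 16), (2, 20), (1, 102)], [(1, 1), (2, 2), (2, 3), (1, 4), (1, 9), (1, 20), (1, 103)], [(2, 0), (2, 1), (1, 3), (1, 9), (2, 16), (2, 20), (1, 104)], [(2, 1), (1, 2), (2, 3), (1, 4), (1, 16), (1, 105)], [(2, 1), (2, 2), (2, 9), (2, 16), (2, 20), (1, 106)], [(2, 2), (2, 4), (1, 9), (1, 16), (1, 107)], [(1, 0), (1, 2), (1, 3), (1, 4), (1, 9), (1, 16), (1, 20), (1, 108)], [(1, 0), (1, 1), (2, 2), (1, 3), (1, 4), (2,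 20), (1, 109)], [(2, 1), (1, 3), (2, 4), (2, 9), (1, 16), (1, 20), (1, 110)], [(1, 0), (2, 1), (2, 3), (2, 4), (1, 9), (2, 20), (1, 111)], [(1, 1), (1, 2), (1, 3), (1, 4), (2, 9), (2, 16), (1, 112)], [(2, 1), (2, 2), (1, 3), (1, 9), (2, 16), (2, 20), (1, 113)], [(1, 1), (1, 2), (1, 3), (1, 4), (1, 16), (1, 114)], [(1, 0), (1, 1), (1, 9), (1, 16), (1, 20), (1, 115)], [(2, 0), (1, 2), (2, 4), (1, 9), (2, 20), (1, 116)], [(2, 3), (1, 4), (2, 9), (2, 16), (2, 20), (1, 117)], [(1, 0), (1, 1), (1, 3), (2, 4), (1, 20), (1, 118)], [(1, 0), (2, 1), (1, 2), (1, 3), (1, 4), (2, 9), (1, 16), (1, 20), (1, 119)], [(2, 0), (2, 1), (1, 3), (2, 4), (1, 9), (2, 16), (1, 120)], [(1, 0), (2, 1), (1, 3), (2, 16), (1, 20), (1, 121)], [(2, 0), (2, 1), (1, 3), (2, 4),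 (2, 9), (1, 16), (1, 122)], [(1, 1), (2, 2), (2, 9), (1, 16), (2, 20), (1, 123)], [(2, 0), (1, 2), (1, 3), (1, 4), (1, 9), (1, 20), (1, 124)], [(1, 1), (2, 3), (2, 4), (2, 16), (1, 20), (1, 125)], [(2, 1), (2, 2), (1, 4), (2, 9), (2, 20), (1, 126)], [(2, 0), (2, 2), (1, 3), (2, 4), (2, 9), (1, 16), (2, 20), (1, 127)]]⟩],
  [[(1, 0), (2, 1), (1, 2), (2, 3)], [(1, 16), (1, 20)], [(2, 0), (2, 2)], [(1, 1), (1, 3), (1, 9), (1, 16), (2, 20)], [(2, 1), (1, 3)], [(1, 0), (1, 4)], [(1, 1), (1, 3), (1, 9)], [(2, 2), (2, 4)]],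
  [[1, 16, 256, 4096, 65536, 1048576, 16777216, 268435456], [287379458, 555876896, 303104544, 287383553, 268575250, 35656209, 35660066, 536945170]]⟩

/-- Pair 1, case 3DDQ. -/
def threeQPair1 : PairData := ⟨34603520, 536871170, [
    ⟨[0], 1, [], []⟩,
    ⟨[2], 1, [1], [[(2, 0), (2, 2), (2, 3), (1, 5)], [(1, 0), (1, 2), (1, 4), (1, 6)], [(2, 0), (2, 1), (2, 2), (1, 7)]]⟩,
    ⟨[3], 1, [2, 1], [[(2, 0), (2, 1), (2, 3), (2, 4), (1, 9)], [(2, 0), (2, 1), (2, 2), (2, 3), (1, 8), (1, 10)], [(1, 0), (2, 1), (2, 3), (1, 4), (1, 11)], [(1, 1), (2, 3), (1, 8), (1, 12)], [(1, 1), (2, 2), (1, 3), (1, 4), (1, 13)], [(1, 0), (1, 2), (2, 3), (2, 8), (1, 14)], [(1, 0), (1, 1), (2, 2), (1, 3), (2, 4), (1, 15)]]⟩,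
    ⟨[1], 1, [1, 1, 2], [[(1, 2), (1, 4), (1, 16), (1, 18)], [(1, 0), (2, 3), (2, 4), (1, 8), (1, 17), (1, 19)], [(1, 0), (2, 4), (2, 16), (1, 20)], [(1, 0), (1, 2), (2, 3), (1, 8), (1, 17), (1, 21)], [(2, 0), (2, 2), (1, 16), (1, 22)], [(1, 2), (1, 4), (2, 17), (1, 23)], [(2, 0), (1, 1), (1, 4), (1, 8), (1, 17), (1, 24)], [(2, 0), (2, 3), (1, 4), (1, 8), (1, 16), (1, 25)], [(2, 0), (2, 1), (1, 2), (2, 3), (2, 4), (2, 17), (1, 26)], [(2, 3), (1, 8), (2, 16), (1, 27)], [(2, 0), (2, 1), (2, 3), (1, 4), (1, 17), (1, 28)], [(1, 0), (1, 2), (1, 3), (2, 8), (2, 16), (1, 29)], [(1, 1), (2, 2), (2, 3), (2, 4), (2, 8), (2, 17), (1, 30)], [(1, 2), (1, 3), (1, 4), (2, 8), (1, 16), (1, 31)]]⟩,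
    ⟨[4], 2, [1, 1, 1, 1], [[(2, 1), (1, 2), (1, 3), (1, 4), (1, 17), (1, 32)], [(2, 2), (2, 3), (2, 4), (1, 8), (2, 16), (2, 17), (1, 33)], [(1, 0), (1, 1), (2, 2), (1, 3), (1, 4), (1, 8), (1, 17), (1, 34)], [(1, 2), (2, 3), (1, 4), (1, 8), (2, 16), (2, 17), (1, 35)], [(2, 0), (1, 1), (1, 2), (2, 4), (2, 8), (2, 17), (1, 36)], [(1, 0), (1, 2), (1, 3), (2, 8), (2, 16), (1, 17), (1, 37)], [(2, 1), (2, 2), (1, 3), (2, 4), (2, 17), (1, 38)], [(1, 0), (2, 2), (1, 3), (1, 4), (2, 8), (2, 16), (1, 17), (1, 39)], [(1, 2), (2, 16), (1, 40)], [(2, 0), (2, 2), (2, 3), (1, 8), (1, 16), (1, 17), (1, 41)], [(1, 0), (2, 2), (2, 4), (2, 16), (1, 42)], [(1, 0), (1, 2), (1, 16), (1, 17), (1, 43)], [(1, 2), (2, 4), (1, 16), (1, 44)], [(2, 0), (1, 2), (2, 4), (2,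 16), (1, 17), (1, 45)], [(2, 0), (2, 2), (2, 4), (1, 16), (1, 46)], [(2, 2), (2, 3), (2, 4), (1, 8), (2, 16), (1, 17), (1, 47)], [(1, 0), (1, 1), (2, 2), (1, 3), (1, 4), (2, 8), (1, 17), (1, 48)], [(2, 0), (1, 1), (1, 2), (2, 3), (1, 4), (1, 49)], [(2, 0), (1, 2), (1, 3), (2, 4), (1, 8), (2, 17), (1, 50)], [(1, 1), (2, 2), (2, 3), (1, 4), (1, 51)], [(2, 2), (2, 4), (1, 8), (2, 17), (1, 52)], [(2, 1), (2, 2), (1, 3), (1, 4), (1, 53)], [(2, 1), (1, 2), (1, 3), (1, 4), (2, 8), (1, 17), (1, 54)], [(2, 0), (2, 1), (1, 2), (1, 3), (1, 4), (1, 55)], [(2, 0), (2, 2), (2, 4), (2, 16), (1, 56)], [(1, 2), (2, 3), (2, 4), (1, 57)], [(1, 2), (1, 16), (1, 58)], [(1, 0), (1, 1), (2, 2), (2, 4), (1, 59)], [(2, 0), (2, 2), (1, 4), (1, 16), (1, 60)], [(1, 1), (2,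 2), (1, 4), (1, 61)], [(2, 0), (1, 2), (2, 16), (1, 62)], [(2, 0), (1, 2), (2, 3), (1, 4), (1, 63)]]⟩,
    ⟨[5], 2, [2, 1, 1, 1, 1], [[(2, 0), (1, 1), (1, 2), (2, 8), (2, 17), (1, 64)], [(2, 2), (2, 4), (2, 8), (1, 16), (1, 17), (1, 65)], [(2, 0), (2, 1), (1, 2), (1, 3), (1, 4), (2, 17), (1, 66)], [(2, 1), (1, 2), (1, 3), (1, 4), (2, 8), (1, 16), (1, 17), (1, 67)], [(1, 0), (2, 1), (1, 2), (1, 3), (1, 4), (1, 17), (1, 68)], [(1, 0), (2, 1), (2, 3), (2, 4), (1, 8), (1, 16), (2, 17), (1, 69)], [(1, 0), (1, 1), (1, 3), (1, 4), (1, 8), (1, 17), (1, 70)], [(1, 0), (1, 2), (1, 3), (1, 8), (1, 16), (2, 17), (1, 71)], [(2, 1), (1, 2), (1, 3), (2, 4), (2, 8), (1, 16), (1, 72)], [(2, 1), (2, 2), (2, 3), (1, 4), (2, 16), (2, 17), (1, 73)], [(1, 0), (1, 2),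 (1, 3), (2, 4), (1, 8), (1, 16), (1, 74)], [(2, 1), (1, 2), (2, 4), (2, 8), (2, 16), (2, 17), (1, 75)], [(1, 2), (1, 8), (2, 16), (1, 76)], [(1, 0), (1, 1), (2, 3), (2, 8), (1, 16), (2, 17), (1, 77)], [(2, 0), (1, 1), (1, 3), (2, 4), (2, 8), (2, 16), (1, 78)], [(1, 0), (1, 1), (1, 2), (1, 3), (2, 4), (1, 16), (2, 17), (1, 79)], [(2, 0), (2, 2), (1, 8), (1, 16), (2, 17), (1, 80)], [(1, 0), (2, 1), (1, 2), (1, 4), (1, 8), (1, 17), (1, 81)], [(1, 0), (2, 1), (2, 2), (1, 3), (1, 4), (2, 8), (2, 16), (1, 17), (1, 82)], [(1, 0), (2, 1), (2, 2), (1, 3), (2, 4), (2, 17), (1, 83)], [(1, 0), (1, 1), (2, 2), (1, 3), (1, 4), (2, 8), (1, 16), (1, 17), (1, 84)], [(1, 0), (1, 1), (2, 3), (2, 17), (1, 85)], [(2, 0), (1, 3), (1, 4), (1, 8), (2, 16), (2, 17), (1,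 86)], [(1, 0), (1, 1), (2, 2), (1, 3), (2, 4), (1, 8), (1, 17), (1, 87)], [(1, 1), (2, 2), (1, 3), (1, 16), (2, 17), (1, 88)], [(2, 0), (2, 1), (1, 2), (2, 3), (1, 4), (1, 8), (2, 16), (1, 89)], [(2, 0), (2, 1), (2, 2), (1, 3), (1, 4), (1, 8), (2, 16), (1, 17), (1, 90)], [(2, 0), (2, 2), (2, 4), (1, 8), (1, 16), (1, 91)], [(2, 1), (2, 2), (1, 4), (2, 8), (2, 16), (2, 17), (1, 92)], [(1, 0), (2, 3), (2, 8), (1, 16), (1, 93)], [(1, 0), (1, 1), (1, 3), (1, 4), (1, 16), (1, 17), (1, 94)], [(1, 0), (2, 1), (2, 2), (1, 3), (2, 4), (2, 8), (2, 16), (1, 95)], [(2, 0), (1, 1), (1, 2), (1, 4), (2, 8), (2, 17), (1, 96)], [(2, 2), (2, 3), (2, 4), (2, 8), (1, 16), (1, 17), (1, 97)], [(1, 0), (2, 1), (1, 3), (2, 17), (1, 98)], [(1, 1), (1, 2), (1, 3), (1, 4),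 (2, 8), (1, 16), (1, 17), (1, 99)], [(2, 0), (2, 1), (1, 2), (1, 3), (1, 4), (1, 17), (1, 100)], [(1, 1), (2, 2), (2, 3), (2, 4), (1, 8), (1, 16), (2, 17), (1, 101)], [(1, 0), (1, 1), (1, 2), (1, 3), (1, 4), (1, 8), (1, 17), (1, 102)], [(1, 8), (1, 16), (2, 17), (1, 103)], [(1, 1), (1, 2), (2, 3), (2, 4), (1, 8), (1, 16), (1, 104)], [(1, 0), (1, 1), (2, 2), (1, 3), (2, 4), (2, 16), (2, 17), (1, 105)], [(2, 3), (2, 4), (2, 8), (1, 16), (1, 106)], [(2, 0), (1, 1), (1, 2), (2, 3), (1, 4), (2, 8), (2, 16), (2, 17), (1, 107)], [(1, 2), (2, 8), (2, 16), (1, 108)], [(2, 0), (2, 1), (2, 2), (2, 4), (2, 8), (1, 16), (2, 17), (1, 109)], [(2, 1), (1, 2), (2, 3), (2, 4), (1, 8), (2, 16), (1, 110)], [(1, 0), (2, 1), (2, 3), (1, 16), (2, 17), (1, 111)], [(1,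 0), (2, 2), (1, 4), (1, 8), (2, 16), (2, 17), (1, 112)], [(2, 0), (2, 1), (1, 2), (2, 3), (2, 8), (2, 17), (1, 113)], [(2, 0), (2, 1), (1, 3), (1, 4), (2, 8), (1, 16), (1, 17), (1, 114)], [(1, 0), (2, 1), (2, 2), (1, 3), (2, 4), (1, 17), (1, 115)], [(1, 0), (1, 1), (2, 2), (1, 3), (1, 4), (2, 8), (2, 16), (1, 17), (1, 116)], [(1, 0), (1, 1), (1, 2), (2, 3), (1, 4), (1, 17), (1, 117)], [(2, 0), (2, 2), (1, 3), (1, 8), (1, 16), (2, 17), (1, 118)], [(2, 0), (1, 1), (2, 4), (2, 8), (2, 17), (1, 119)], [(1, 0), (2, 1), (2, 2), (2, 3), (2, 4), (1, 16), (1, 17), (1, 120)], [(2, 0), (2, 1), (1, 2), (1, 3), (1, 4), (2, 8), (1, 16), (1, 121)], [(2, 0), (1, 1), (2, 3), (2, 4), (2, 8), (2, 16), (2, 17), (1, 122)], [(1, 0), (2, 2), (2, 3), (2, 8), (2, 16), (1,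 123)], [(1, 0), (1, 1), (2, 2), (1, 8), (2, 16), (1, 17), (1, 124)], [(1, 0), (1, 2), (1, 4), (1, 8), (2, 16), (1, 125)], [(2, 0), (2, 1), (2, 2), (2, 3), (2, 4), (1, 16), (2, 17), (1, 126)], [(2, 0), (2, 1), (2, 3), (2, 4), (1, 8), (1, 16), (1, 127)]]⟩],
  [[(1, 0), (1, 1), (1, 2), (1, 3)], [(1, 0), (2, 4), (1, 16)], [(1, 0), (1, 2)], [(1, 0), (2, 3), (2, 4), (1, 8), (2, 17)], [(2, 0), (2, 2), (1, 3), (2, 8)], [(2, 0), (2, 4)], [(2, 2), (2, 4)], [(1, 1), (2, 3)]],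
  [[1, 16, 256, 4096, 65536, 1048576, 16777216, 268435456], [17900034, 270602784, 285344273, 555753505, 570556962, 304095250, 34677249, 539038224]]⟩

/-- The certificate, case 3DDQ. -/
def threeQCert : Cert := ⟨threeQGens, threeQCands, [threeQPair0, threeQPair1]⟩

end CfsgLib.CoprimeBase.Bases
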