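import Cfsg.Agent.Lib.FgsC.CoprimeBase.Bases.Good
import Cfsg.Agent.Lib.FgsC.CoprimeBase.Bases.Tables

/-!
# Standard bases for products of dihedral and quaternion groups of order eight
-/

set_option autoImplicit false
set_option linter.unusedSectionVars false
set_option linter.unusedVariables false
set_option linter.unusedSimpArgs false
set_option linter.style.haveILetI false

universe u v

namespace CfsgLib.CoprimeBase.Bases

variable {K : Type u} [Field K] {V : Type v} [AddCommGroup V] [Module K V]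

/-- A fixed vector of an involution with a partner reversing it, inside an invariant condition. -/
theorem exists_plus (h2 : (2 : K) ≠ 0) {a c : V ≃ₗ[K] V} (ha : ∀ v, a (a v) = v)
    (hac : ∀ v, a (c v) = -c (a v)) {P : V → Prop} (hadd : ∀ x y, P x → P y → P (x + y))
    (hPa : ∀ x, P x → P (a x)) (hPc : ∀ x, P x → P (c x)) (hex : ∃ x, x ≠ 0 ∧ P x) :
    ∃ v, v ≠ 0 ∧ P v ∧ a v = v := by
  obtain ⟨x, hx, hPx⟩ := hex
  by_cases h : x + a x = 0
  · refine ⟨c x, fun e => hx (c.map_eq_zero_iff.1 e), hPc x hPx, ?_⟩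
    rw [hac, eq_neg_of_add_eq_zero_right h, map_neg, neg_neg]
  · exact ⟨x + a x, h, hadd _ _ hPx (hPa _ hPx), by rw [map_add, ha, add_comm]⟩

theorem eq_zero_of_add_self (h2 : (2 : K) ≠ 0) {x : V} (h : x + x = 0) : x = 0 := by
  rw [← two_smul K] at h
  exact (smul_eq_zero.1 h).resolve_left h2

/-- A vector fixed by the diagonal generators of two dihedral factors. -/
theorem exists_base (h2 : (2 : K) ≠ 0) [Nontrivial V] {a0 a1 b0 b1 : V ≃ₗ[K] V} (ha : ∀ v, a0 (a0 v) = v)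
    (hb : ∀ v, b0 (b0 v) = v) (haa : ∀ v, a0 (a1 v) = -a1 (a0 v)) (hbb : ∀ v, b0 (b1 v) = -b1 (b0 v))
    (hab : ∀ v, a0 (b0 v) = b0 (a0 v)) (hab' : ∀ v, a0 (b1 v) = b1 (a0 v)) :
    ∃ v, v ≠ 0 ∧ a0 v = v ∧ b0 v = v := by
  obtain ⟨v, hv, -, hv0⟩ := exists_plus (P := fun _ => True) h2 ha haa (fun _ _ _ _ => trivial)
    (fun _ _ => trivial) (fun _ _ => trivial) ((exists_ne (0 : V)).imp fun _ h => ⟨h, trivial⟩)
  exact exists_plus (P := fun x => a0 x = x) h2 hb hbb (fun x y hx hy => by rw [map_add, hx, hy])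
    (fun x hx => by rw [hab, hx]) (fun x hx => by rw [hab', hx]) ⟨v, hv, hv0⟩

/-- The four translates are independent. -/
theorem indep_four (h2 : (2 : K) ≠ 0) {a0 a1 b0 b1 : V ≃ₗ[K] V}
    (ha1 : ∀ v, a1 (a1 v) = v) (hb1 : ∀ v, b1 (b1 v) = v)
    (haa : ∀ v, a0 (a1 v) = -a1 (a0 v)) (hbb : ∀ v, b0 (b1 v) = -b1 (b0 v))
    (hab : ∀ v, b0 (a1 v) = a1 (b0 v)) (hab' : ∀ v, a0 (b1 v) = b1 (a0 v))
    {x y z w : V} (hx : a0 x = x ∧ b0 x = x) (hy : a0 y = y ∧ b0 y = y)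
    (hz : a0 z = z ∧ b0 z = z) (hw : a0 w = w ∧ b0 w = w)
    (h : x + b1 y + a1 z + a1 (b1 w) = 0) : x = 0 ∧ y = 0 ∧ z = 0 ∧ w = 0 := by
  have e0 := congrArg a0 h
  simp only [map_add, map_neg, map_zero, haa, hab', hx.1, hy.1, hz.1, hw.1] at e0
  have h1 : x + b1 y = 0 := eq_zero_of_add_self h2 (by
    rw [← add_zero (0 : V)]
    conv_rhs => lhs; rw [← h]
    conv_rhs => rhs; rw [← e0]
    abel)
  have h1' : a1 z + a1 (b1 w) = 0 := by rw [add_assoc, h1, zero_add] at h; exact h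
  rw [← map_add, LinearEquiv.map_eq_zero_iff] at h1'
  have split : ∀ {s t : V}, b0 s = s → b0 t = t → s + b1 t = 0 → s = 0 ∧ t = 0 := fun {s t} hs ht e => by
    have e' := congrArg b0 e
    simp only [map_add, map_zero, hbb, hs, ht] at e'
    have hs0 : s = 0 := eq_zero_of_add_self h2 (by
      rw [← add_zero (0 : V)]
      conv_rhs => lhs; rw [← e]
      conv_rhs => rhs; rw [← e']
      abel)
    rw [hs0, zero_add] at e
    exact ⟨hs0, b1.map_eq_zero_iff.1 e⟩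
  exact ⟨(split hx.2 hy.2 h1).1, (split hx.2 hy.2 h1).2, (split hz.2 hw.2 h1').1, (split hz.2 hw.2 h1').2⟩

/-- The generators as a function on the naturals. -/
def ext {m : ℕ} (e : Fin m → V ≃ₗ[K] V) (i : ℕ) : V ≃ₗ[K] V := if h : i < m then e ⟨i, h⟩ else 1

theorem ext_mem {m : ℕ} {N : Subgroup (V ≃ₗ[K] V)} {e : Fin m → V ≃ₗ[K] V} (h : ∀ i, e i ∈ N) (i : ℕ) :
    ext e i ∈ N := by
  unfold ext
  split
  · exact h _
  · exact N.one_mem

theorem comm_app {a c : V ≃ₗ[K] V} (h : a * c = c * a) (v : V) : a (c v) = c (a v) := LinearEquiv.congr_fun h v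

/-- A standard basis for two dihedral factors. -/
theorem exists_basisDD (h2 : (2 : K) ≠ 0) (hdim : Module.finrank K V = 4) {e : Fin 4 → V ≃ₗ[K] V}
    (hsq : ∀ i, ∀ v, e i (e i v) = v)
    (hanti : ∀ i j : Fin 4, i ≠ j → (i : ℕ) / 2 = (j : ℕ) / 2 → ∀ v, e i (e j v) = -e j (e i v))
    (hcomm : ∀ i j : Fin 4, (i : ℕ) / 2 ≠ (j : ℕ) / 2 → e i * e j = e j * e i) :
    ∃ b : Module.Basis (Fin 4) K V,
      (e 0 (b 0) = b 0 ∧ e 0 (b 1) = b 1 ∧ e 0 (b 2) = -b 2 ∧ e 0 (b 3) = -b 3) ∧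
      (e 1 (b 0) = b 2 ∧ e 1 (b 1) = b 3 ∧ e 1 (b 2) = b 0 ∧ e 1 (b 3) = b 1) ∧
      (e 2 (b 0) = b 0 ∧ e 2 (b 1) = -b 1 ∧ e 2 (b 2) = b 2 ∧ e 2 (b 3) = -b 3) ∧
      (e 3 (b 0) = b 1 ∧ e 3 (b 1) = b 0 ∧ e 3 (b 2) = b 3 ∧ e 3 (b 3) = b 2) := by
  haveI : Nontrivial V := Module.nontrivial_of_finrank_pos (R := K) (by rw [hdim]; norm_num)
  have h01 := hanti 0 1 (by decide) rfl
  have h23 := hanti 2 3 (by decide) rfl
  have h02 := comm_app (hcomm 0 2 (by decide))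
  have h03 := comm_app (hcomm 0 3 (by decide))
  have h21 := comm_app (hcomm 2 1 (by decide))
  have h31 := comm_app (hcomm 3 1 (by decide))
  obtain ⟨v, hv, hv0, hv2⟩ := exists_base h2 (hsq 0) (hsq 2) h01 h23 h02 h03
  have hli : LinearIndependent K ![v, e 3 v, e 1 v, e 1 (e 3 v)] := by
    rw [Fintype.linearIndependent_iff]
    intro f hf
    have hf' : f 0 • v + e 3 (f 1 • v) + e 1 (f 2 • v) + e 1 (e 3 (f 3 • v)) = 0 := by
      simpa [Fin.sum_univ_four, map_smul] using hf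
    have hfix : ∀ c : K, e 0 (c • v) = c • v ∧ e 2 (c • v) = c • v := fun c => by simp [hv0, hv2]
    obtain ⟨x0, x1, x2, x3⟩ := indep_four h2 (hsq 1) (hsq 3) h01 h23 h21 h03 (hfix _) (hfix _) (hfix _) (hfix _) hf'
    intro i
    fin_cases i
    exacts [(smul_eq_zero.1 x0).resolve_right hv, (smul_eq_zero.1 x1).resolve_right hv,
      (smul_eq_zero.1 x2).resolve_right hv, (smul_eq_zero.1 x3).resolve_right hv]
  refine ⟨basisOfLinearIndependentOfCardEqFinrank hli (by simp [hdim]), ?_⟩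
  simp only [coe_basisOfLinearIndependentOfCardEqFinrank]
  simp [h01, h23, h03, h21, h31, hsq 1, hsq 3, hv0, hv2]

/-- A standard basis for two dihedral factors and a quaternion factor over the field of three elements. -/
theorem exists_basisDDQ [Finite K] (hq : Nat.card K = 3) [CharP K 3] (hdim : Module.finrank K V = 8)
    {e : Fin 6 → V ≃ₗ[K] V}
    (hsq : ∀ i : Fin 6, (i : ℕ) < 4 → ∀ v, e i (e i v) = v)
    (hsq' : ∀ i : Fin 6, 4 ≤ (i : ℕ) → ∀ v, e i (e i v) = -v)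
    (hanti : ∀ i j : Fin 6, i ≠ j → (i : ℕ) / 2 = (j : ℕ) / 2 → ∀ v, e i (e j v) = -e j (e i v))
    (hcomm : ∀ i j : Fin 6, (i : ℕ) / 2 ≠ (j : ℕ) / 2 → e i * e j = e j * e i) :
    ∃ (b : Module.Basis (Fin 8) K V) (s t : K), s ≠ 0 ∧ t ≠ 0 ∧
      (e 0 (b 0) = b 0 ∧ e 0 (b 1) = b 1 ∧ e 0 (b 2) = b 2 ∧ e 0 (b 3) = b 3 ∧
        e 0 (b 4) = -b 4 ∧ e 0 (b 5) = -b 5 ∧ e 0 (b 6) = -b 6 ∧ e 0 (b 7) = -b 7) ∧
      (e 1 (b 0) = b 4 ∧ e 1 (b 1) = b 5 ∧ e 1 (b 2) = b 6 ∧ e 1 (b 3) = b 7 ∧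
        e 1 (b 4) = b 0 ∧ e 1 (b 5) = b 1 ∧ e 1 (b 6) = b 2 ∧ e 1 (b 7) = b 3) ∧
      (e 2 (b 0) = b 0 ∧ e 2 (b 1) = b 1 ∧ e 2 (b 2) = -b 2 ∧ e 2 (b 3) = -b 3 ∧
        e 2 (b 4) = b 4 ∧ e 2 (b 5) = b 5 ∧ e 2 (b 6) = -b 6 ∧ e 2 (b 7) = -b 7) ∧
      (e 3 (b 0) = b 2 ∧ e 3 (b 1) = b 3 ∧ e 3 (b 2) = b 0 ∧ e 3 (b 3) = b 1 ∧
        e 3 (b 4) = b 6 ∧ e 3 (b 5) = b 7 ∧ e 3 (b 6) = b 4 ∧ e 3 (b 7) = b 5) ∧
      (s • e 4 (b 0) = -b 1 ∧ s • e 4 (b 1) = b 0 ∧ s • e 4 (b 2) = -b 3 ∧ s • e 4 (b 3) = b 2 ∧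
        s • e 4 (b 4) = -b 5 ∧ s • e 4 (b 5) = b 4 ∧ s • e 4 (b 6) = -b 7 ∧ s • e 4 (b 7) = b 6) ∧
      (t • e 5 (b 0) = b 0 + b 1 ∧ t • e 5 (b 1) = b 0 - b 1 ∧ t • e 5 (b 2) = b 2 + b 3 ∧
        t • e 5 (b 3) = b 2 - b 3 ∧ t • e 5 (b 4) = b 4 + b 5 ∧ t • e 5 (b 5) = b 4 - b 5 ∧
        t • e 5 (b 6) = b 6 + b 7 ∧ t • e 5 (b 7) = b 6 - b 7) := by
  haveI : Nontrivial V := Module.nontrivial_of_finrank_pos (R := K) (by rw [hdim]; norm_num)
  have hK : ∀ a : K, a = 0 ∨ a = 1 ∨ a = -1 := fun a => by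
    obtain ⟨m, hm, rfl⟩ := exists_natCast (q := 3) hq a
    interval_cases m
    · exact Or.inl Nat.cast_zero
    · exact Or.inr (Or.inl Nat.cast_one)
    · exact Or.inr (Or.inr (eq_neg_of_add_eq_zero_left (by exact_mod_cast CharP.cast_eq_zero K 3)))
  have h2 : (2 : K) ≠ 0 := fun h => absurd ((CharP.cast_eq_zero_iff K 3 2).1 (by exact_mod_cast h)) (by decide)
  have h01 := hanti 0 1 (by decide) rfl
  have h23 := hanti 2 3 (by decide) rfl
  have h54 := hanti 5 4 (by decide) rfl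
  have h02 := comm_app (hcomm 0 2 (by decide))
  have h03 := comm_app (hcomm 0 3 (by decide))
  have h04 := comm_app (hcomm 0 4 (by decide))
  have h05 := comm_app (hcomm 0 5 (by decide))
  have h21 := comm_app (hcomm 2 1 (by decide))
  have h24 := comm_app (hcomm 2 4 (by decide))
  have h25 := comm_app (hcomm 2 5 (by decide))
  have h31 := comm_app (hcomm 3 1 (by decide))
  have h41 := comm_app (hcomm 4 1 (by decide))
  have h43 := comm_app (hcomm 4 3 (by decide))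
  have h51 := comm_app (hcomm 5 1 (by decide))
  have h53 := comm_app (hcomm 5 3 (by decide))
  have s1 := hsq 1 (by decide)
  have s3 := hsq 3 (by decide)
  have s4 := hsq' 4 (by decide)
  have s5 := hsq' 5 (by decide)
  obtain ⟨v, hv, hv0, hv2⟩ := exists_base h2 (hsq 0 (by decide)) (hsq 2 (by decide)) h01 h23 h02 h03
  -- the plus space is spanned by the vector and its translate
  have hvw : ∀ a c : K, a • v + c • e 4 v = 0 → a = 0 ∧ c = 0 := fun a c h => by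
    have h' := congrArg (e 4) h
    simp only [map_add, map_smul, map_zero, s4, smul_neg] at h'
    have e1 : (a * a + c * c) • v = 0 := by
      have : a • (a • v + c • e 4 v) - c • (a • e 4 v + -(c • v)) = 0 := by rw [h, h']; simp
      rw [← this]
      module
    have e2 := (smul_eq_zero.1 e1).resolve_right hv
    rcases hK a with rfl | rfl | rfl <;> rcases hK c with rfl | rfl | rfl <;>
      first
      | exact ⟨rfl, rfl⟩
      | (exfalso; norm_num at e2 <;> first | exact h2 e2 | exact absurd e2 one_ne_zero)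
  have hfix : ∀ a c : K, e 0 (a • v + c • e 4 v) = a • v + c • e 4 v ∧ e 2 (a • v + c • e 4 v) = a • v + c • e 4 v :=
    fun a c => by simp [h04, h24, hv0, hv2]
  have hli : ∀ σ : K, σ ≠ 0 → LinearIndependent K
      ![v, σ • e 4 v, e 3 v, e 3 (σ • e 4 v), e 1 v, e 1 (σ • e 4 v), e 1 (e 3 v), e 1 (e 3 (σ • e 4 v))] := by
    intro σ hσ
    rw [Fintype.linearIndependent_iff]
    intro f hf
    have hf' : (f 0 • v + (f 1 * σ) • e 4 v) + e 3 (f 2 • v + (f 3 * σ) • e 4 v) +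
        e 1 (f 4 • v + (f 5 * σ) • e 4 v) + e 1 (e 3 (f 6 • v + (f 7 * σ) • e 4 v)) = 0 := by
      rw [← hf]
      simp only [Fin.sum_univ_eight, map_add, map_smul, Matrix.cons_val, smul_smul]
      module
    obtain ⟨x0, x1, x2, x3⟩ := indep_four h2 s1 s3 h01 h23 h21 h03 (hfix _ _) (hfix _ _) (hfix _ _) (hfix _ _) hf'
    obtain ⟨a0, c0⟩ := hvw _ _ x0
    obtain ⟨a1, c1⟩ := hvw _ _ x1
    obtain ⟨a2, c2⟩ := hvw _ _ x2
    obtain ⟨a3, c3⟩ := hvw _ _ x3
    intro i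
    fin_cases i
    exacts [a0, (mul_eq_zero.1 c0).resolve_right hσ, a1, (mul_eq_zero.1 c1).resolve_right hσ, a2,
      (mul_eq_zero.1 c2).resolve_right hσ, a3, (mul_eq_zero.1 c3).resolve_right hσ]
  -- the second quaternion generator on the plus space
  obtain ⟨a, c, hac⟩ : ∃ a c : K, e 5 v = a • v + c • e 4 v := by
    set b := basisOfLinearIndependentOfCardEqFinrank (hli 1 one_ne_zero) (by simp [hdim]) with hb
    obtain ⟨f, hf⟩ : ∃ f : Fin 8 → K, ∑ j, f j • b j = e 5 v := ⟨b.repr (e 5 v), b.sum_repr _⟩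
    simp only [hb, coe_basisOfLinearIndependentOfCardEqFinrank, Fin.sum_univ_eight, Matrix.cons_val,
      one_smul] at hf
    refine ⟨f 0, f 1, ?_⟩
    have hplus : e 0 (e 5 v - (f 0 • v + f 1 • e 4 v)) = e 5 v - (f 0 • v + f 1 • e 4 v) ∧
        e 2 (e 5 v - (f 0 • v + f 1 • e 4 v)) = e 5 v - (f 0 • v + f 1 • e 4 v) := by
      simp [h04, h24, h05, h25, hv0, hv2]
    have hneg : e 5 v - (f 0 • v + f 1 • e 4 v) = e 3 (f 2 • v + f 3 • e 4 v) + e 1 (f 4 • v + f 5 • e 4 v) +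
        e 1 (e 3 (f 6 • v + f 7 • e 4 v)) := by
      rw [← hf]
      simp only [map_add, map_smul]
      abel
    have := indep_four h2 s1 s3 h01 h23 h21 h03 hplus (hfix (-f 2) (-f 3)) (hfix (-f 4) (-f 5))
      (hfix (-f 6) (-f 7)) (by
        rw [hneg]
        simp only [map_add, map_smul, neg_smul, map_neg]
        abel)
    exact sub_eq_zero.1 this.1
  have hab : a * a + c * c = -1 := by
    have h := s5 v
    rw [hac, map_add, map_smul, map_smul, h54, hac] at h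
    simp only [map_add, map_smul, s4, neg_add, smul_add, smul_neg, smul_smul] at h
    have e1 : (a * a + c * c + 1) • v + (0 : K) • e 4 v = 0 := by
      rw [← sub_eq_zero] at h
      rw [← h]
      module
    exact eq_neg_of_add_eq_zero_left (hvw _ _ e1).1
  have ha : a ≠ 0 := fun e => by
    subst e
    rcases hK c with rfl | rfl | rfl <;> norm_num at hab <;>
      exact h2 (by linear_combination hab)
  have hc : c ≠ 0 := fun e => by
    subst e
    rcases hK a with rfl | rfl | rfl <;> norm_num at hab <;>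
      exact h2 (by linear_combination hab)
  have ha2 : a * a = 1 := by rcases hK a with rfl | rfl | rfl <;> simp at ha ⊢
  have hc2 : c * c = 1 := by rcases hK c with rfl | rfl | rfl <;> simp at hc ⊢
  have hac2 : a * c * (a * c) = 1 := by rw [mul_mul_mul_comm, ha2, hc2, one_mul]
  refine ⟨basisOfLinearIndependentOfCardEqFinrank (hli (a * c) (mul_ne_zero ha hc)) (by simp [hdim]),
    -(a * c), a, neg_ne_zero.2 (mul_ne_zero ha hc), ha, ?_⟩
  simp only [coe_basisOfLinearIndependentOfCardEqFinrank, Matrix.cons_val]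
  simp only [h01, h23, h03, h04, h21, h24, h31, h41, h43, h51, h53, h54, s1, s3, s4, hv0, hv2, hac, map_smul,
    map_add, map_neg, smul_add, smul_neg, neg_smul, neg_neg, smul_smul, mul_neg, neg_mul, hac2, ha2, one_smul,
    true_and, and_true]
  refine ⟨?_, ?_⟩ <;> (repeat' apply And.intro) <;>
    first
    | module
    | (match_scalars <;> first | ring1 | linear_combination ha2 | linear_combination -ha2 |
        linear_combination (a * c) * ha2 | linear_combination -(a * c) * ha2 | linear_combination hac2 |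
        linear_combination -hac2 | linear_combination a * a * hc2 | linear_combination hc2)

end CfsgLib.CoprimeBase.Bases
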