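import Cfsg.Agent.Lib.FgsC.CoprimeBase.Bases.Cert

/-!
# A checked certificate gives a good pair
-/

set_option autoImplicit false
set_option linter.unusedSectionVars false
set_option linter.style.haveILetI false

universe u v

namespace CfsgLib.CoprimeBase.Bases

variable {K : Type u} [Field K] {V : Type v} [AddCommGroup V] [Module K V] {n q : ℕ} [CharP K q]
  (b : Module.Basis (Fin n) K V)

theorem le_mod {q a : ℕ} (h : a < q) : a % q = a := Nat.mod_eq_of_lt h

theorem wordEl_mem {N : Subgroup (V ≃ₗ[K] V)} {G : ℕ → V ≃ₗ[K] V} (hG : ∀ i, G i ∈ N) :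
    ∀ w : List ℕ, wordEl G w ∈ N
  | [] => N.one_mem
  | i :: w => N.mul_mem (hG i) (wordEl_mem hG w)

include q in
/-- Rows with the right columns act as their columns say. -/
theorem map_vec_app (hq0 : 0 < q) (hq : q ≤ 16) {M : Mat} (hM : ∀ r ∈ M, ∀ cj ∈ r, cj.2 < n) {g : V ≃ₗ[K] V}
    {c : K} (h : ∀ j : Fin n, vec b (app q M (unit j)) = c • g (b j)) (x : ℕ) :
    vec b (app q M x) = c • g (vec b x) := by
  rw [vec_app b hq0 hq hM, vec, map_sum, Finset.smul_sum]
  exact Finset.sum_congr rfl fun j _ => by rw [h, map_smul, smul_comm]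

theorem gensOK_spec {n : ℕ} {gm : List Mat} (h : gensOK n gm = true) {i : ℕ} (hi : i < gm.length) :
    ∀ r ∈ gm.getD i [], ∀ cj ∈ r, cj.2 < n := by
  simp only [gensOK, List.all_eq_true, Nat.blt_eq] at h
  intro r hr cj hcj
  rw [List.getD_eq_getElem _ _ hi] at hr
  exact h _ (List.getElem_mem hi) r hr cj hcj

theorem exists_natCast (hq : Nat.card K = q) [Finite K] (a : K) : ∃ m, m < q ∧ (m : K) = a := by
  have h0 : q ≠ 0 := hq ▸ Nat.card_pos.ne'
  haveI : NeZero q := ⟨h0⟩
  have hb : Function.Bijective fun m : Fin q => ((m : ℕ) : K) := by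
    have hi : Function.Injective fun m : Fin q => ((m : ℕ) : K) := fun x y e => by
      have := (cast_eq_iff (K := K) (q := q)).1 e
      rw [le_mod x.2, le_mod y.2] at this
      exact Fin.ext this
    exact (Nat.bijective_iff_injective_and_card _).2 ⟨hi, by rw [Nat.card_fin, hq]⟩
  obtain ⟨m, hm⟩ := hb.2 a
  exact ⟨m, m.2, hm⟩

include q in
theorem pow_apply_vec (hq0 : 0 < q) (hq : q ≤ 16) {h : V ≃ₗ[K] V} {w : List (List ℕ)}
    (hh : ∀ x, h (vec b x) = vec b (appProd q n w x)) :
    ∀ k x, (h ^ k) (vec b x) = vec b (iter (appProd q n w) k x)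
  | 0, x => rfl
  | k + 1, x => by rw [pow_succ', LinearEquiv.mul_apply, pow_apply_vec hq0 hq hh k, hh]; rfl

/-- The main statement: a checked certificate, with the generators acting as it says. -/
theorem good_of_cert [Finite K] (hq : Nat.card K = q) (hqp : q.Prime) (hq16 : q ≤ 16) {C : Cert}
    (hC : C.ok q n = true) {N H : Subgroup (V ≃ₗ[K] V)} (hN : Ext N) (hH : Acts q N H)
    (G : ℕ → V ≃ₗ[K] V) (hGmem : ∀ i, G i ∈ N)
    (hG : ∀ i, i < C.gm.length → ∀ j : Fin n, G i (b j) = vec b (app q (C.gm.getD i []) (unit j)))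
    (hinv : ∀ i, i < C.gm.length → ∃ s : K, s ≠ 0 ∧ ∀ v : V, G i (G i v) = s • v)
    (hcentral : ∀ x ∈ N, (∀ i, i < C.gm.length → x * G i = G i * x) → IsScalar x) : Good N H := by
  classical
  haveI : Finite V := Finite.of_equiv _ b.equivFun.symm.toEquiv
  have hq0 : 0 < q := hqp.pos
  simp only [Cert.ok, Bool.and_eq_true] at hC
  obtain ⟨⟨⟨⟨⟨hgens, hcands⟩, hcompl⟩, htw⟩, hpairs⟩, hchoice⟩ := hC
  simp only [List.all_eq_true] at hcands hpairs hchoice
  -- the generators and their words on coordinates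
  have hgen : ∀ i, i < C.gm.length → ∀ x, G i (vec b x) = vec b (app q (C.gm.getD i []) x) := fun i hi x => by
    rw [map_vec_app b hq0 hq16 (gensOK_spec hgens hi) (g := G i) (c := 1)
      (fun j => by rw [one_smul, hG i hi]) x, one_smul]
  have hword : ∀ w : List ℕ, (∀ i ∈ w, i < C.gm.length) → ∀ x,
      wordEl G w (vec b x) = vec b (appWord q C.gm w x) := by
    intro w
    induction w with
    | nil => intro _ x; rfl
    | cons i w ih =>
      intro h x
      rw [wordEl, LinearEquiv.mul_apply, ih (fun e he => h e (by simp [he])), hgen i (h i (by simp))]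
      rfl
  have hwordFor : ∀ p : List Bool, ∀ i ∈ wordFor C.gm.length p, i < C.gm.length := fun p i hi => by
    simp only [wordFor, List.mem_filter, List.mem_range] at hi
    exact hi.1
  -- every element of the group is a scalar times a word
  have hform : ∀ x ∈ N, ∃ p ∈ pats C.gm.length, ∃ a, a < q ∧ (a : K) ≠ 0 ∧
      ∀ v : V, x v = (a : K) • wordEl G (wordFor C.gm.length p) v := by
    intro x hx
    rcases subsingleton_or_nontrivial V with hV | hV
    · exact ⟨_, ofFn_mem_pats fun _ => false, 1, hqp.one_lt, by rw [Nat.cast_one]; exact one_ne_zero,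
        fun v => Subsingleton.elim _ _⟩
    have hsign : ∀ i : Fin C.gm.length, ∃ t : Bool, Twist x (G i) (if t then -1 else 1) := fun i => by
      obtain ⟨a, ha0, ha⟩ := hN.exists_twist hx (hGmem i)
      obtain ⟨s, hs0, hs⟩ := hinv i i.2
      obtain ⟨v, hv⟩ := exists_ne (0 : V)
      have h2 : s • x v = (a * a) • s • x v := by
        have e := congrArg x (hs v)
        rw [map_smul, ha, ha, map_smul, smul_smul, hs] at e
        exact e.symm
      have h3 : a * a = 1 := by
        have hne : s • x v ≠ 0 := smul_ne_zero hs0 fun e => hv (x.map_eq_zero_iff.1 e)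
        exact (smul_left_injective K hne (show (a * a) • s • x v = (1 : K) • s • x v by rw [one_smul, ← h2]))
      rcases mul_self_eq_one_iff.1 h3 with rfl | rfl
      · exact ⟨false, by simpa using ha⟩
      · exact ⟨true, by simpa using ha⟩
    choose t ht using hsign
    refine ⟨_, ofFn_mem_pats t, ?_⟩
    set w := wordFor C.gm.length (List.ofFn t) with hw
    have hWt : ∀ i : Fin C.gm.length, Twist (wordEl G w) (G i) (if t i then -1 else 1) := fun i v => by
      obtain ⟨v', rfl⟩ : ∃ f : Fin n → K, (∑ j, f j • b j) = v := ⟨b.repr v, b.sum_repr v⟩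
      simp only [map_sum, map_smul, Finset.smul_sum, smul_comm (if t i then (-1 : K) else 1)]
      refine Finset.sum_congr rfl fun j _ => ?_
      congr 1
      simp only [twistOK, List.all_eq_true, List.mem_range] at htw
      have h1 := (vec_eq_smul_iff (q := q) b).2 (htw _ (ofFn_mem_pats t) i i.2 j j.2)
      rw [← hword _ (hwordFor _), ← hgen _ i.2, ← hgen _ i.2, ← hword _ (hwordFor _), vec_unit,
        List.getD_eq_getElem _ _ (by simp), List.getElem_ofFn] at h1
      rw [h1]
      congr 1
      simp only [Fin.eta]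
      split
      · rw [Nat.cast_sub hqp.pos, CharP.cast_eq_zero, Nat.cast_one, zero_sub]
      · rw [Nat.cast_one]
    have hz : ∀ i, i < C.gm.length → (wordEl G w)⁻¹ * x * G i = G i * ((wordEl G w)⁻¹ * x) := fun i hi => by
      have e1 := ht ⟨i, hi⟩
      have e2 := hWt ⟨i, hi⟩
      refine LinearEquiv.ext fun v => (wordEl G w).injective ?_
      simp only [LinearEquiv.mul_apply]
      rw [e2, ← LinearEquiv.mul_apply (wordEl G w), ← LinearEquiv.mul_apply (wordEl G w) (wordEl G w)⁻¹]
      simp only [mul_inv_cancel, LinearEquiv.coe_one, id_eq]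
      exact e1 v
    obtain ⟨a, ha⟩ := (hcentral _ (N.mul_mem (N.inv_mem (wordEl_mem hGmem w)) hx) hz).exists_unit
    obtain ⟨m, hm, hma⟩ := exists_natCast (q := q) hq (a : K)
    refine ⟨m, hm, hma ▸ a.ne_zero, fun v => ?_⟩
    rw [hma, show x = wordEl G w * sc a by rw [← ha, mul_inv_cancel_left], LinearEquiv.mul_apply, sc_apply,
      map_smul]
  -- images of the steps of the searches
  have himg : ∀ g ∈ H, ∀ w : List ℕ, (∀ i ∈ w, i < C.gm.length) →
      ∃ M ∈ C.cands.map (fun c => c.mat), Img b q C.gm g w M := by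
    intro g hg w hw
    obtain ⟨p, hp, a, ha, ha0, hY⟩ := hform _ (hH.normalises g hg _ (wordEl_mem hGmem w))
    have hc := hcompl
    simp only [completeOK, List.all_eq_true, List.mem_range, Bool.or_eq_true, Nat.beq_eq, List.any_eq_true,
      Bool.and_eq_true, decide_eq_true_eq] at hc
    obtain ⟨c, hc, hca, hcw⟩ := ((hc a ha).resolve_left fun e => ha0 (by rw [e, Nat.cast_zero])) p hp
    refine ⟨c.mat, List.mem_map_of_mem hc, fun x y hxy => ?_⟩
    have hco := hcands c hc
    simp only [candOK, Bool.and_eq_true, List.all_eq_true, Nat.blt_eq, List.mem_range] at hco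
    obtain ⟨⟨hcols, hcwd⟩, hcm⟩ := hco
    rw [map_vec_app b hq0 hq16 hcols (g := wordEl G c.w) (c := (c.a : K)) (fun j => by
      rw [(vec_eq_smul_iff (q := q) b).2 (hcm j j.2), ← hword _ hcwd, vec_unit]) y, hca, hcw, ← hY, ← hxy,
      ← hword _ hw]
    simp only [← LinearEquiv.mul_apply, inv_mul_cancel_right]
  -- one of the pairs is regular
  have hone : ∃ P ∈ C.pairs, ∀ g ∈ H, g (vec b P.u) = vec b P.u → g (vec b P.v) = vec b P.v → g = 1 := by
    by_contra hcon
    push Not at hcon
    have hsol : ∀ Ps : List PairData, (∀ P ∈ Ps, P ∈ C.pairs) →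
        ∃ ch ∈ allChoices (Ps.map fun P => P.sols), ∀ cols ∈ ch,
          ∃ g ∈ H, g ≠ 1 ∧ ∀ x, g (vec b x) = vec b (appCols q n cols x) := by
      intro Ps
      induction Ps with
      | nil => exact fun _ => ⟨[], by simp [allChoices], by simp⟩
      | cons P Ps ih =>
        intro h
        obtain ⟨ch, hch, hchg⟩ := ih fun Q hQ => h Q (List.mem_cons_of_mem _ hQ)
        have hPC := h P List.mem_cons_self
        obtain ⟨g, hg, hgu, hgv, hg1⟩ := hcon P hPC
        have hP := hpairs P hPC
        simp only [pairOK, Bool.and_eq_true] at hP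
        obtain ⟨⟨⟨⟨-, hlv⟩, hsrc⟩, hsearch⟩, -⟩ := hP
        simp only [List.all_eq_true, Nat.blt_eq] at hlv
        obtain ⟨cols, hcols, hgc⟩ := search_sound b hq0 hq16 hgu P.levels
          (fun lv hl => himg g hg lv.w (hlv lv hl)) [] (by simp) [P.u, P.v] [P.u, P.v] rfl
          (fun i => by
            match i with
            | 0 => exact hgu
            | 1 => exact hgv
            | i + 2 => simp [vec_zero])
          hsrc hsearch
        refine ⟨cols :: ch, ?_, fun c hc => ?_⟩
        · simp only [List.map_cons, allChoices, List.mem_flatMap, List.mem_map]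
          exact ⟨cols, hcols, ch, hch, rfl⟩
        · rcases List.mem_cons.1 hc with rfl | hc
          · exact ⟨g, hg, hg1, map_vec_appCols b hq0 hq16 hgc⟩
          · exact hchg c hc
    obtain ⟨ch, hch, hchg⟩ := hsol C.pairs fun _ h => h
    have hb := hchoice ch hch
    simp only [Bool.or_eq_true, List.any_eq_true] at hb
    rcases hb with ⟨cols, hc, hid⟩ | ⟨w, hw, hbad⟩
    · obtain ⟨g, -, hg1, hgv⟩ := hchg cols hc
      refine hg1 (LinearEquiv.toLinearMap_injective (b.ext fun j => ?_))
      simp only [isId, List.all_eq_true, List.mem_range] at hid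
      have h1 := (vec_eq_smul_iff (q := q) b).2 (hid j j.2)
      rw [Nat.cast_one, one_smul, vec_unit] at h1
      have h2 := hgv (unit j)
      rw [vec_unit] at h2
      show g (b j) = b j
      rw [h2]
      conv_rhs => rw [← h1]
      rw [appCols, vec_lc b hq0 hq16, List.map_map, ← List.sum_toFinset _ List.nodup_range,
        List.toFinset_range, Finset.sum_eq_single (j : ℕ)]
      · simp [dig_unit]
      · intro i _ hi
        simp [dig_unit, hi]
      · simp
    · have hwH : ∀ c ∈ w, ∃ g ∈ H, g ≠ 1 ∧ ∀ x, g (vec b x) = vec b (appCols q n c x) := by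
        intro c hc
        refine hchg c ?_
        simp only [shortWords, List.mem_append, List.mem_map, List.mem_flatMap] at hw
        rcases hw with ⟨a, ha, rfl⟩ | ⟨a, ha, b', hb', rfl⟩ <;> simp at hc
        · exact hc ▸ ha
        · rcases hc with rfl | rfl
          · exact ha
          · exact hb'
      have hprod : ∀ w : List (List ℕ), (∀ c ∈ w, ∃ g ∈ H, g ≠ 1 ∧ ∀ x, g (vec b x) = vec b (appCols q n c x)) →
          ∃ h ∈ H, ∀ x, h (vec b x) = vec b (appProd q n w x) := by
        intro w
        induction w with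
        | nil => exact fun _ => ⟨1, H.one_mem, fun x => rfl⟩
        | cons c w ih =>
          intro h
          obtain ⟨g, hg, -, hgv⟩ := h c List.mem_cons_self
          obtain ⟨h', hh', hh'v⟩ := ih fun e he => h e (List.mem_cons_of_mem _ he)
          exact ⟨g * h', H.mul_mem hg hh', fun x => by rw [LinearEquiv.mul_apply, hh'v, hgv]; rfl⟩
      obtain ⟨h, hh, hhv⟩ := hprod w hwH
      simp only [badWord, List.any_eq_true, Bool.and_eq_true, List.all_eq_true, List.mem_range,
        Bool.not_eq_true'] at hbad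
      obtain ⟨k, -, hkq, j, hj, hk⟩ := hbad
      have hpow := pow_apply_vec b hq0 hq16 hhv
      have h1 : (h ^ k) ^ q = 1 := by
        rw [← pow_mul]
        refine LinearEquiv.toLinearMap_injective (b.ext fun i => ?_)
        show (h ^ (k * q)) (b i) = b i
        rw [← vec_unit b i, hpow, (vec_eq_smul_iff (q := q) b).2 (hkq i i.2), Nat.cast_one, one_smul]
      have h2 : h ^ k ≠ 1 := fun e => by
        have h3 := hpow k (unit j)
        rw [e, LinearEquiv.coe_one, id_eq] at h3
        have h4 : vec b (iter (appProd q n w) k (unit j)) = ((1 : ℕ) : K) • vec b (unit j) := by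
          rw [← h3, Nat.cast_one, one_smul]
        rw [(vec_eq_smul_iff (q := q) b).1 h4] at hk
        exact Bool.noConfusion hk
      haveI := Fact.mk hqp
      have hord : orderOf (⟨h ^ k, H.pow_mem hh k⟩ : H) = q := by
        rw [Subgroup.orderOf_mk]
        exact orderOf_eq_prime h1 h2
      exact hH.not_dvd (hord ▸ orderOf_dvd_natCard _)
  obtain ⟨P, hPC, hreg⟩ := hone
  have hP := hpairs P hPC
  simp only [pairOK, Bool.and_eq_true, Bool.not_eq_true', List.all_eq_true, List.mem_range, Bool.or_eq_true] at hP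
  obtain ⟨⟨⟨⟨hu, -⟩, -⟩, -⟩, hfree⟩ := hP
  refine ⟨vec b P.u, vec b P.v, fun e => ?_, fun g hg h1 h2 x _ => by rw [hreg g hg h1 h2, one_mul, mul_one],
    fun x hx c hxc => ?_, fun x hx c hxc => ?_⟩
  · rw [(vec_eq_zero_iff (q := q) b).1 e] at hu
    exact Bool.noConfusion hu
  · obtain ⟨p, hp, a, -, ha0, hY⟩ := hform x hx
    obtain ⟨m, hm, hma⟩ := exists_natCast (q := q) hq ((a : K)⁻¹ * c)
    rcases (hfree p hp m hm).1 with he | he
    · refine ⟨(a : K), fun v => ?_⟩
      rw [hY, List.isEmpty_iff.1 he]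
      rfl
    · refine absurd ((vec_eq_smul_iff (q := q) b).1 ?_) (by rw [he]; exact Bool.false_ne_true)
      rw [hma, ← hword _ (hwordFor _), mul_smul, ← hxc, hY, inv_smul_smul₀ ha0]
  · obtain ⟨p, hp, a, -, ha0, hY⟩ := hform x hx
    obtain ⟨m, hm, hma⟩ := exists_natCast (q := q) hq ((a : K)⁻¹ * c)
    refine absurd ((vec_eq_smul_iff (q := q) b).1 ?_) (by rw [(hfree p hp m hm).2]; exact Bool.false_ne_true)
    rw [hma, ← hword _ (hwordFor _), mul_smul, ← hxc, hY, inv_smul_smul₀ ha0]

end CfsgLib.CoprimeBase.Bases
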