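import Cfsg.Agent.Lib.FgsC.CoprimeBase.Bases.Checks
import Cfsg.Agent.Lib.FgsC.CoprimeBase.Bases.Frame

/-!
# The three exceptional base cases: good pairs exist
-/

set_option autoImplicit false
set_option maxRecDepth 100000

universe u v

namespace CfsgLib.CoprimeBase

open Bases

variable {K : Type u} [Field K] [Finite K] {V : Type v} [AddCommGroup V] [Module K V]
  {N H : Subgroup (V ≃ₗ[K] V)}

theorem charP_of_natCard {q : ℕ} (hq : Nat.card K = q) (hqp : q.Prime) : CharP K q := by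
  haveI : Fintype K := Fintype.ofFinite K
  haveI := Fact.mk hqp
  exact charP_of_card_eq_prime (R := K) (p := q) (by rw [← Nat.card_eq_fintype_card, hq])

/-- Two dihedral factors of order eight over the field of five elements. -/
theorem good_fiveDD (hq : Nat.card K = 5) (hdim : Module.finrank K V = 4) (hN : Ext N) (hH : Acts 5 N H)
    (e : Fin 4 → V ≃ₗ[K] V) (hmem : ∀ i, e i ∈ N) (hsq : ∀ i, ∀ v, e i (e i v) = v)
    (hanti : ∀ i j : Fin 4, i ≠ j → (i : ℕ) / 2 = (j : ℕ) / 2 → ∀ v, e i (e j v) = -e j (e i v))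
    (hcomm : ∀ i j : Fin 4, (i : ℕ) / 2 ≠ (j : ℕ) / 2 → e i * e j = e j * e i)
    (hcentral : ∀ x ∈ N, (∀ i, x * e i = e i * x) → IsScalar x) : Good N H := by
  haveI := charP_of_natCard hq (by norm_num)
  have h4 : ((4 : ℕ) : K) = -1 := eq_neg_of_add_eq_zero_left (by exact_mod_cast CharP.cast_eq_zero K 5)
  have h4' : (4 : K) = -1 := by exact_mod_cast h4
  have h2 : (2 : K) ≠ 0 := fun h => absurd ((CharP.cast_eq_zero_iff K 5 2).1 (by exact_mod_cast h)) (by decide)
  obtain ⟨b, e0, e1, e2, e3⟩ := exists_basisDD h2 hdim hsq hanti hcomm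
  refine good_of_cert b hq (by norm_num) (by norm_num) fiveCert_ok hN hH (Bases.ext e) (ext_mem hmem) ?_ ?_ ?_
  · intro i hi j
    change i < 4 at hi
    interval_cases i <;> fin_cases j <;>
      simp [Bases.ext, vec, dig, app, pack, rowVal, unit, fiveCert, fiveGens, Fin.sum_univ_four, e0, e1, e2, e3,
        h4, h4']
  · intro i hi
    refine ⟨1, one_ne_zero, fun v => ?_⟩
    change i < 4 at hi
    rw [Bases.ext, dif_pos hi, one_smul, hsq]
  · intro x hx h
    refine hcentral x hx fun i => ?_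
    have := h i i.2
    rwa [Bases.ext, dif_pos i.2] at this

/-- Two dihedral factors of order eight over the field of three elements. -/
theorem good_threeDD (hq : Nat.card K = 3) (hdim : Module.finrank K V = 4) (hN : Ext N) (hH : Acts 3 N H)
    (e : Fin 4 → V ≃ₗ[K] V) (hmem : ∀ i, e i ∈ N) (hsq : ∀ i, ∀ v, e i (e i v) = v)
    (hanti : ∀ i j : Fin 4, i ≠ j → (i : ℕ) / 2 = (j : ℕ) / 2 → ∀ v, e i (e j v) = -e j (e i v))
    (hcomm : ∀ i j : Fin 4, (i : ℕ) / 2 ≠ (j : ℕ) / 2 → e i * e j = e j * e i)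
    (hcentral : ∀ x ∈ N, (∀ i, x * e i = e i * x) → IsScalar x) : Good N H := by
  haveI := charP_of_natCard hq (by norm_num)
  have h4 : ((2 : ℕ) : K) = -1 := eq_neg_of_add_eq_zero_left (by exact_mod_cast CharP.cast_eq_zero K 3)
  have h4' : (2 : K) = -1 := by exact_mod_cast h4
  have h2 : (2 : K) ≠ 0 := by rw [h4']; exact neg_ne_zero.2 one_ne_zero
  obtain ⟨b, e0, e1, e2, e3⟩ := exists_basisDD h2 hdim hsq hanti hcomm
  refine good_of_cert b hq (by norm_num) (by norm_num) threeCert_ok hN hH (Bases.ext e) (ext_mem hmem) ?_ ?_ ?_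
  · intro i hi j
    change i < 4 at hi
    interval_cases i <;> fin_cases j <;>
      simp [Bases.ext, vec, dig, app, pack, rowVal, unit, threeCert, threeGens, Fin.sum_univ_four, e0, e1, e2, e3,
        h4, h4']
  · intro i hi
    refine ⟨1, one_ne_zero, fun v => ?_⟩
    change i < 4 at hi
    rw [Bases.ext, dif_pos hi, one_smul, hsq]
  · intro x hx h
    refine hcentral x hx fun i => ?_
    have := h i i.2
    rwa [Bases.ext, dif_pos i.2] at this

set_option maxHeartbeats 3200000 in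
/-- Two dihedral and one quaternion factor of order eight over the field of three elements. -/
theorem good_threeDDQ (hq : Nat.card K = 3) (hdim : Module.finrank K V = 8) (hN : Ext N) (hH : Acts 3 N H)
    (e : Fin 6 → V ≃ₗ[K] V) (hmem : ∀ i, e i ∈ N) (hsq : ∀ i : Fin 6, (i : ℕ) < 4 → ∀ v, e i (e i v) = v)
    (hsq' : ∀ i : Fin 6, 4 ≤ (i : ℕ) → ∀ v, e i (e i v) = -v)
    (hanti : ∀ i j : Fin 6, i ≠ j → (i : ℕ) / 2 = (j : ℕ) / 2 → ∀ v, e i (e j v) = -e j (e i v))
    (hcomm : ∀ i j : Fin 6, (i : ℕ) / 2 ≠ (j : ℕ) / 2 → e i * e j = e j * e i)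
    (hcentral : ∀ x ∈ N, (∀ i, x * e i = e i * x) → IsScalar x) : Good N H := by
  haveI := charP_of_natCard hq (by norm_num)
  have h4 : ((2 : ℕ) : K) = -1 := eq_neg_of_add_eq_zero_left (by exact_mod_cast CharP.cast_eq_zero K 3)
  have h4' : (2 : K) = -1 := by exact_mod_cast h4
  obtain ⟨b, s, t, hs, ht, e0, e1, e2, e3, e4, e5⟩ := exists_basisDDQ hq hdim hsq hsq' hanti hcomm
  -- rescale the last two generators
  let c : Fin 6 → Kˣ := ![1, 1, 1, 1, Units.mk0 s hs, Units.mk0 t ht]
  let f : Fin 6 → V ≃ₗ[K] V := fun i => sc (c i) * e i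
  have hf : ∀ i v, f i v = (c i : K) • e i v := fun i v => rfl
  refine good_of_cert b hq (by norm_num) (by norm_num) threeQCert_ok hN hH (Bases.ext f)
    (ext_mem fun i => N.mul_mem (hN.sc_mem _) (hmem i)) ?_ ?_ ?_
  · intro i hi j
    change i < 6 at hi
    interval_cases i <;> fin_cases j <;>
      simp [Bases.ext, hf, c, vec, dig, app, pack, rowVal, unit, threeQCert, threeQGens, Fin.sum_univ_eight,
        e0, e1, e2, e3, e4, e5, h4, h4', sub_eq_add_neg]
  · intro i hi
    change i < 6 at hi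
    rcases Nat.lt_or_ge i 4 with h | h
    · refine ⟨(c ⟨i, hi⟩ : K) * c ⟨i, hi⟩, mul_ne_zero (Units.ne_zero _) (Units.ne_zero _), fun v => ?_⟩
      rw [Bases.ext, dif_pos hi, hf, hf, map_smul, smul_smul, hsq _ h]
    · refine ⟨-((c ⟨i, hi⟩ : K) * c ⟨i, hi⟩), neg_ne_zero.2 (mul_ne_zero (Units.ne_zero _) (Units.ne_zero _)),
        fun v => ?_⟩
      rw [Bases.ext, dif_pos hi, hf, hf, map_smul, smul_smul, hsq' _ h, smul_neg, neg_smul]
  · intro x hx h
    refine hcentral x hx fun i => ?_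
    have := h i i.2
    rw [Bases.ext, dif_pos i.2] at this
    refine LinearEquiv.ext fun v => ?_
    have e := LinearEquiv.congr_fun this v
    simp only [LinearEquiv.mul_apply, hf, map_smul] at e
    exact smul_right_injective V (Units.ne_zero _) e

end CfsgLib.CoprimeBase
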