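import Cfsg.Agent.Lib.FgsC.CoprimeBase.Bases.Code

/-!
# The search for the maps normalising an extraspecial group and fixing two vectors

A map is followed through the images of generators of the group, pruned by the linear relations of
the translates of the two vectors.
-/

set_option autoImplicit false

universe u v

namespace CfsgLib.CoprimeBase.Bases

/-- Pass the numeral to the continuation. -/
def force (a : ℕ) (k : ℕ → Bool) : Bool :=
  match a with
  | 0 => k 0
  | m + 1 => k (m + 1)

theorem force_eq (a : ℕ) (k : ℕ → Bool) : force a k = k a := by cases a <;> rfl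

/-- Pass the numerals of a list to the continuation. -/
def forceL : List ℕ → (List ℕ → Bool) → Bool
  | [], k => k []
  | a :: l, k => force a fun a => forceL l fun l => k (a :: l)

theorem forceL_eq : ∀ (l : List ℕ) (k : List ℕ → Bool), forceL l k = k l
  | [], _ => rfl
  | a :: l, k => by rw [forceL, force_eq, forceL_eq l]

/-- A step: a word in the generators, its square, its factors with the earlier ones, relations. -/
structure Lv where
  /-- the word -/
  w : List ℕ
  /-- the square -/
  sq : ℕ
  /-- the factors, latest first -/
  comms : List ℕ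
  /-- relations of the translates -/
  rels : List Row

/-- A word applied to a vector. -/
def appWord (q : ℕ) (gm : List Mat) : List ℕ → ℕ → ℕ
  | [], x => x
  | i :: w, x => app q (gm.getD i []) (appWord q gm w x)

/-- The factors with earlier maps, seen on one vector. -/
def commOK (q n : ℕ) (f : ℕ → ℕ) (u : ℕ) : List (ℕ → ℕ) → List ℕ → Bool
  | g :: gs, c :: cs => ceq q n c (f (g u)) (g (f u)) && commOK q n f u gs cs
  | _, _ => true

/-- The relations hold. -/
def relsOK (q n : ℕ) (S : List ℕ) (rels : List Row) : Bool := rels.all fun r => isZero q n (lc q n S r)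

/-- The data of the steps are right. -/
def checkSrc (q n : ℕ) (gm : List Mat) (u : ℕ) (certs : List Row) : List Lv → List (List ℕ) → List ℕ → Bool
  | [], _, S => (List.range n).all fun j => ceq q n 1 (lc q n S (certs.getD j [])) (unit j)
  | lv :: rest, prev, S =>
    ceq q n lv.sq (appWord q gm lv.w (appWord q gm lv.w u)) u &&
      commOK q n (appWord q gm lv.w) u (prev.map fun w => appWord q gm w) lv.comms &&
      (forceL (S.map fun x => appWord q gm lv.w x) fun J =>
        relsOK q n (S ++ J) lv.rels && checkSrc q n gm u certs rest (lv.w :: prev) (S ++ J))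

/-- The columns of the map found. -/
def leafCols (q n : ℕ) (I : List ℕ) (certs : List Row) : List ℕ :=
  (List.range n).map fun j => lc q n I (certs.getD j [])

/-- Every branch ends in a listed map. -/
def search (q n : ℕ) (mats : List Mat) (u : ℕ) (certs : List Row) (L : List (List ℕ)) :
    List Lv → List Mat → List ℕ → Bool
  | [], _, I => L.any fun l => decide (leafCols q n I certs = l)
  | lv :: rest, prev, I => mats.all fun M =>
    !(ceq q n lv.sq (app q M (app q M u)) u && commOK q n (app q M) u (prev.map fun M => app q M) lv.comms) ||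
      (forceL (I.map fun x => app q M x) fun J =>
        !(relsOK q n (I ++ J) lv.rels) || search q n mats u certs L rest (M :: prev) (I ++ J))

variable {K : Type u} [Field K] {V : Type v} [AddCommGroup V] [Module K V] {n q : ℕ} [CharP K q]

/-- The image of a word under conjugation. -/
def Img (b : Module.Basis (Fin n) K V) (q : ℕ) (gm : List Mat) (g : V ≃ₗ[K] V) (w : List ℕ) (M : Mat) : Prop :=
  ∀ x y, g (vec b x) = vec b y → g (vec b (appWord q gm w x)) = vec b (app q M y)

variable (b : Module.Basis (Fin n) K V) {gm : List Mat} {g : V ≃ₗ[K] V} {u : ℕ}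

include q in
theorem commOK_transfer {w : List ℕ} {M : Mat} (hM : Img b q gm g w M) (hu : g (vec b u) = vec b u) :
    ∀ (P : List (List ℕ × Mat)), (∀ e ∈ P, Img b q gm g e.1 e.2) → ∀ cs : List ℕ,
      commOK q n (appWord q gm w) u (P.map fun e => appWord q gm e.1) cs = true →
      commOK q n (app q M) u (P.map fun e => app q e.2) cs = true
  | [], _, cs, _ => by cases cs <;> rfl
  | e :: P, hP, [], _ => rfl
  | e :: P, hP, c :: cs, h => by
    simp only [List.map_cons, commOK, Bool.and_eq_true] at h ⊢
    refine ⟨?_, commOK_transfer hM hu P (fun e' he' => hP e' (List.mem_cons_of_mem _ he')) cs h.2⟩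
    have he := hP e List.mem_cons_self
    have h1 := (vec_eq_smul_iff (q := q) b).2 h.1
    have h2 := congrArg g h1
    rw [hM _ _ (he _ _ hu), map_smul, he _ _ (hM _ _ hu)] at h2
    exact (vec_eq_smul_iff (q := q) b).1 h2

include q in
theorem relsOK_transfer (hq0 : 0 < q) (hq : q ≤ 16) {S I : List ℕ}
    (hI : ∀ i, g (vec b (S.getD i 0)) = vec b (I.getD i 0)) {rels : List Row}
    (h : relsOK q n S rels = true) : relsOK q n I rels = true := by
  simp only [relsOK, List.all_eq_true] at h ⊢
  intro r hr
  have h1 := (vec_eq_zero_iff (q := q) b).2 (h r hr)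
  have h2 := congrArg g h1
  rw [vec_lc b hq0 hq, map_zero, map_list_sum, List.map_map] at h2
  rw [← vec_eq_zero_iff (q := q) b, vec_lc b hq0 hq]
  rw [← h2]
  congr 1
  refine List.map_congr_left fun ci _ => ?_
  simp only [Function.comp_apply, map_smul, hI]

include q in
theorem search_sound (hq0 : 0 < q) (hq : q ≤ 16) {mats : List Mat} {certs : List Row} {L : List (List ℕ)}
    (hu : g (vec b u) = vec b u) :
    ∀ (levels : List Lv), (∀ lv ∈ levels, ∃ M ∈ mats, Img b q gm g lv.w M) →
    ∀ (P : List (List ℕ × Mat)), (∀ e ∈ P, Img b q gm g e.1 e.2) → ∀ (S I : List ℕ), S.length = I.length →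
      (∀ i, g (vec b (S.getD i 0)) = vec b (I.getD i 0)) →
      checkSrc q n gm u certs levels (P.map fun e => e.1) S = true →
      search q n mats u certs L levels (P.map fun e => e.2) I = true →
      ∃ cols ∈ L, ∀ j : Fin n, g (b j) = vec b (cols.getD j 0)
  | [], _, P, _, S, I, _, hI, hc, hs => by
    simp only [checkSrc, List.all_eq_true, List.mem_range] at hc
    simp only [search, List.any_eq_true, decide_eq_true_eq] at hs
    obtain ⟨l, hl, rfl⟩ := hs
    refine ⟨_, hl, fun j => ?_⟩
    have h1 := (vec_eq_smul_iff (q := q) b).2 (hc j j.2)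
    rw [Nat.cast_one, one_smul, vec_unit] at h1
    have hcol : (leafCols q n I certs).getD (j : ℕ) 0 = lc q n I (certs.getD (j : ℕ) []) := by
      simp [leafCols, List.getD_eq_getElem?_getD]
    rw [← h1, hcol, vec_lc b hq0 hq, vec_lc b hq0 hq, map_list_sum, List.map_map]
    congr 1
    refine List.map_congr_left fun ci _ => ?_
    simp only [Function.comp_apply, map_smul, hI]
  | lv :: rest, hex, P, hP, S, I, hlen, hI, hc, hs => by
    obtain ⟨M, hM, hImg⟩ := hex lv List.mem_cons_self
    simp only [checkSrc, forceL_eq, Bool.and_eq_true, List.map_map] at hc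
    obtain ⟨⟨hsq, hcomm⟩, hrel, hrest⟩ := hc
    simp only [search, List.all_eq_true] at hs
    have hsM := hs M hM
    have hIJ : ∀ i, g (vec b ((S ++ S.map fun x => appWord q gm lv.w x).getD i 0)) =
        vec b ((I ++ I.map fun x => app q M x).getD i 0) := by
      intro i
      rcases lt_or_ge i S.length with h | h
      · rw [List.getD_append _ _ _ _ h, List.getD_append _ _ _ _ (hlen ▸ h), hI]
      · rw [List.getD_append_right _ _ _ _ h, List.getD_append_right _ _ _ _ (hlen ▸ h), ← hlen]
        rcases lt_or_ge (i - S.length) S.length with h' | h'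
        · rw [List.getD_eq_getElem _ _ (by simpa using h'), List.getD_eq_getElem _ _ (by simpa [← hlen] using h'),
            List.getElem_map, List.getElem_map]
          refine hImg _ _ ?_
          have := hI (i - S.length)
          rwa [List.getD_eq_getElem _ _ h', List.getD_eq_getElem _ _ (hlen ▸ h')] at this
        · rw [List.getD_eq_default _ _ (by simpa using h'), List.getD_eq_default _ _ (by simpa [← hlen] using h'),
            vec_zero, map_zero]
    have e1 : ceq q n lv.sq (app q M (app q M u)) u = true := by
      have h1 := congrArg g ((vec_eq_smul_iff (q := q) b).2 hsq)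
      rw [hImg _ _ (hImg _ _ hu), map_smul, hu] at h1
      exact (vec_eq_smul_iff (q := q) b).1 h1
    have e2 : commOK q n (app q M) u ((P.map fun e => e.2).map fun M => app q M) lv.comms = true := by
      rw [List.map_map]
      exact commOK_transfer b hImg hu P hP lv.comms hcomm
    have e3 : relsOK q n (I ++ I.map fun x => app q M x) lv.rels = true :=
      relsOK_transfer b hq0 hq hIJ hrel
    rw [forceL_eq, e1, e2, e3] at hsM
    simp only [Bool.and_self, Bool.not_true, Bool.false_or] at hsM
    exact search_sound hq0 hq hu rest (fun x hx => hex x (List.mem_cons_of_mem _ hx)) ((lv.w, M) :: P)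
      (fun e he => by
        rcases List.mem_cons.1 he with rfl | he
        · exact hImg
        · exact hP e he)
      _ _ (by simp [hlen]) hIJ hrest hsM

end CfsgLib.CoprimeBase.Bases
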